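import Cfsg.Agent.Lib.Spor.MathieuConj
import Cfsg.Agent.Lib.KnownA.MathieuOut.M22

/-!
# The stabilizer of a duad is the automorphism group of the Mathieu group of degree 22

It acts faithfully by conjugation on `M₂₂` and has order `2 * 443520`.
-/

set_option autoImplicit false
set_option linter.unusedSectionVars false

namespace CfsgLib.Spor.JankoFourCentral

open Cfsg
open scoped Pointwise

/-- An element of the duad stabilizer fixes or exchanges the two points. -/
theorem mem_duadStab_iff {g : Equiv.Perm GolayPt} :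
    g ∈ MulAction.stabilizer (Equiv.Perm GolayPt) ({none, some 0} : Set GolayPt) ↔
      (g none = none ∧ g (some 0) = some 0) ∨ (g none = some 0 ∧ g (some 0) = none) := by
  rw [MulAction.mem_stabilizer_iff, Set.smul_set_insert, Set.smul_set_singleton,
    Set.pair_eq_pair_iff, Equiv.Perm.smul_def, Equiv.Perm.smul_def]

theorem mem_M22_iff {g : Equiv.Perm GolayPt} :
    g ∈ Spor.M22 ↔ g ∈ M24 ∧ g none = none ∧ g (some 0) = some 0 := by
  rw [Spor.M22, Spor.M23, Subgroup.mem_inf, Subgroup.mem_inf, MulAction.mem_stabilizer_iff,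
    MulAction.mem_stabilizer_iff, and_assoc]
  rfl

theorem exists_swap : ∃ s ∈ M24, s none = (some 0 : GolayPt) ∧ s (some 0) = none := by
  have h2 := CfsgLib.Spor.isMultiplyPretransitive_le_five (k := 2) (by norm_num)
  have e1 : Function.Injective ![(none : GolayPt), some 0] := by
    intro i j h; fin_cases i <;> fin_cases j <;> simp_all
  have e2 : Function.Injective ![(some 0 : GolayPt), none] := by
    intro i j h; fin_cases i <;> fin_cases j <;> simp_all
  obtain ⟨⟨g, hg⟩, h⟩ := MulAction.isMultiplyPretransitive_iff.1 h2 ⟨_, e1⟩ ⟨_, e2⟩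
  exact ⟨g, hg, DFunLike.congr_fun h 0, DFunLike.congr_fun h 1⟩

/-- The duad stabilizer has order `887040`. -/
theorem natCard_duadStab :
    Nat.card ↥(M24 ⊓ MulAction.stabilizer (Equiv.Perm GolayPt) ({none, some 0} : Set GolayPt)) =
      2 * 443520 := by
  classical
  obtain ⟨s, hs, hs1, hs2⟩ := exists_swap
  set K := M24 ⊓ MulAction.stabilizer (Equiv.Perm GolayPt) ({none, some 0} : Set GolayPt) with hK
  have hsK : s ∈ K := ⟨hs, mem_duadStab_iff.2 (Or.inr ⟨hs1, hs2⟩)⟩
  have hle : Spor.M22 ≤ K := fun g hg =>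
    ⟨(mem_M22_iff.1 hg).1, mem_duadStab_iff.2 (Or.inl (mem_M22_iff.1 hg).2)⟩
  let f : Bool × ↥Spor.M22 → ↥K := fun p =>
    ⟨(bif p.1 then s else 1) * p.2.1, K.mul_mem (by cases p.1 <;> [exact K.one_mem; exact hsK])
      (hle p.2.2)⟩
  have hf : Function.Bijective f := by
    constructor
    · rintro ⟨b, x⟩ ⟨c, y⟩ h
      have h' : (bif b then s else 1) * x.1 = (bif c then s else 1) * y.1 := congrArg Subtype.val h
      have hbc : b = c := by
        have e := Equiv.congr_fun h' none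
        simp only [Equiv.Perm.mul_apply, (mem_M22_iff.1 x.2).2.1, (mem_M22_iff.1 y.2).2.1] at e
        cases b <;> cases c <;> simp [hs1] at e ⊢
      subst hbc
      exact Prod.ext rfl (Subtype.ext (mul_left_cancel h'))
    · rintro ⟨g, hg, hg'⟩
      rcases mem_duadStab_iff.1 hg' with h | ⟨a, b⟩
      · exact ⟨(false, ⟨g, mem_M22_iff.2 ⟨hg, h⟩⟩), Subtype.ext (one_mul g)⟩
      · refine ⟨(true, ⟨s⁻¹ * g, mem_M22_iff.2 ⟨mul_mem (inv_mem hs) hg, ?_, ?_⟩⟩),
          Subtype.ext (mul_inv_cancel_left s g)⟩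
        · rw [Equiv.Perm.mul_apply, a, Equiv.Perm.inv_def, Equiv.symm_apply_eq, hs1]
        · rw [Equiv.Perm.mul_apply, b, Equiv.Perm.inv_def, Equiv.symm_apply_eq, hs2]
  rw [← Nat.card_eq_of_bijective f hf, Nat.card_prod, CfsgLib.MathieuOut.natCard_M22,
    Nat.card_eq_fintype_card, Fintype.card_bool]

/-- The automorphism group of `M₂₂` has order `887040`. -/
theorem natCard_mulAut_M22 : Nat.card (MulAut ↥Spor.M22) = 2 * 443520 := by
  have hout : Nat.card (Cfsg.Out ↥Spor.M22) = 2 := by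
    rw [← CfsgLib.MathieuOut.stabG_M22]
    exact CfsgLib.MathieuOut.M22Cert.natCard_out
  have hinn : Nat.card (Inn ↥Spor.M22) = 443520 := by
    rw [← CfsgLib.MathieuOut.natCard_M22]
    refine (Nat.card_congr (MonoidHom.ofInjective (f := MulAut.conj (G := ↥Spor.M22))
      ((injective_iff_map_eq_one _).2 fun x hx => ?_)).toEquiv).symm
    refine Subtype.ext (CfsgLib.Spor.centralizer_M22 (mem_M22_iff.1 x.2).1 fun y hy => ?_)
    have e := congrArg Subtype.val (DFunLike.congr_fun hx (⟨y, hy⟩ : ↥Spor.M22))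
    exact mul_inv_eq_iff_eq_mul.1 e
  rw [Subgroup.card_eq_card_quotient_mul_card_subgroup (Inn ↥Spor.M22), hinn]
  exact congrArg (· * 443520) hout

/-- The duad stabilizer acts on `M₂₂` as its automorphism group. -/
theorem nonempty_duadStab_autM22 :
    Nonempty (↥(Cfsg.M24 ⊓ MulAction.stabilizer (Equiv.Perm Cfsg.GolayPt)
      ({none, some 0} : Set Cfsg.GolayPt)) ≃* MulAut ↥Cfsg.Spor.M22) := by
  set K := Cfsg.M24 ⊓ MulAction.stabilizer (Equiv.Perm Cfsg.GolayPt)
      ({none, some 0} : Set Cfsg.GolayPt) with hK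
  have hn : ∀ k ∈ K, ∀ x ∈ Spor.M22, k * x * k⁻¹ ∈ Spor.M22 := by
    rintro k ⟨hk, hk'⟩ x hx
    obtain ⟨hx0, hx1, hx2⟩ := mem_M22_iff.1 hx
    refine mem_M22_iff.2 ⟨mul_mem (mul_mem hk hx0) (inv_mem hk), ?_, ?_⟩
    all_goals
      rcases mem_duadStab_iff.1 hk' with ⟨a, b⟩ | ⟨a, b⟩ <;>
        simp only [Equiv.Perm.mul_apply]
    · rw [show k⁻¹ none = none from (Equiv.symm_apply_eq k).2 a.symm, hx1, a]
    · rw [show k⁻¹ none = some 0 from (Equiv.symm_apply_eq k).2 b.symm, hx2, b]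
    · rw [show k⁻¹ (some 0) = some 0 from (Equiv.symm_apply_eq k).2 b.symm, hx2, b]
    · rw [show k⁻¹ (some 0) = none from (Equiv.symm_apply_eq k).2 a.symm, hx1, a]
  have hn' : ∀ k ∈ K, ∀ x ∈ Spor.M22, k⁻¹ * x * k ∈ Spor.M22 := fun k hk x hx => by
    simpa using hn k⁻¹ (inv_mem hk) x hx
  let φ : ↥K →* MulAut ↥Spor.M22 :=
    { toFun := fun k =>
        { toFun := fun x => ⟨k.1 * x.1 * k.1⁻¹, hn k.1 k.2 x.1 x.2⟩
          invFun := fun x => ⟨k.1⁻¹ * x.1 * k.1, hn' k.1 k.2 x.1 x.2⟩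
          left_inv := fun x => Subtype.ext (by group)
          right_inv := fun x => Subtype.ext (by group)
          map_mul' := fun x y => Subtype.ext (by simp [mul_assoc]) }
      map_one' := MulEquiv.ext fun x => Subtype.ext (by simp)
      map_mul' := fun k l => MulEquiv.ext fun x => Subtype.ext (by
        show (k * l : ↥K).1 * x.1 * (k * l : ↥K).1⁻¹ = k.1 * (l.1 * x.1 * l.1⁻¹) * k.1⁻¹
        simp [mul_assoc]) }
  have hinj : Function.Injective φ := (injective_iff_map_eq_one φ).2 fun k hk =>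
    Subtype.ext (CfsgLib.Spor.centralizer_M22 k.2.1 fun x hx => by
      have e := congrArg Subtype.val (DFunLike.congr_fun hk (⟨x, hx⟩ : ↥Spor.M22))
      exact mul_inv_eq_iff_eq_mul.1 e)
  exact ⟨MulEquiv.ofBijective φ ((Nat.bijective_iff_injective_and_card φ).2
    ⟨hinj, by rw [natCard_mulAut_M22]; exact natCard_duadStab⟩)⟩

end CfsgLib.Spor.JankoFourCentral
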