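import Cfsg.Agent.Lib.Spor.SextetGroup
import Cfsg.Agent.Lib.Spor.Classes
import Cfsg.Agent.Lib.Spor.JankoFourCentral.Data

/-!
Kernel checks behind the fusion of involutions into the elementary abelian subgroup of order
`2^11` in groups of Janko-four type.
-/

set_option autoImplicit false
set_option maxRecDepth 100000

namespace CfsgLib.Spor.JankoFourCentral

open CfsgLib.Spor

/-- a translation of the first sextet by index -/
def tEl (j : ℕ) : ℕ := sexInvol.getD j 0

/-- a listed element of the sextet stabiliser by index -/
def sEl (j : ℕ) : ℕ := sGens.getD j 0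

/-- a listed conjugating element by index -/
def cEl (j : ℕ) : ℕ := cList.getD j 0

/-- the masks representing the even cocode -/
def vList : List ℕ := spanList evBasis

/-- generators of the distinguished subspace -/
def wMasks : List ℕ := 15 :: wGens.map fun p => Nat.xor p.1 (actP (tEl p.2) p.1)

/-- the masks of the distinguished subspace -/
def wList : List ℕ := spanList wMasks

/-- `g a g⁻¹ = b` -/
def conjOK (g a b : ℕ) : Bool := Nat.beq (compP g a) (compP b g)

/-- `a * b = c` -/
def mulOK (a b c : ℕ) : Bool := Nat.beq (compP a b) (compP c idP)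

/-- `a = 1` -/
def oneOK (a : ℕ) : Bool := Nat.beq (compP a idP) (compP idP idP)

theorem base_check :
    Nat.beq (sexBase.getD 0 0) 15 = true ∧ sexInvol.length = 64 ∧
    (sexBase.all fun t => inCode (Nat.xor 15 t) && Nat.beq (pop t) 4 && Nat.blt t 16777216) = true ∧
    ((List.range 24).all fun i => sexBase.any fun t => t.testBit i) = true ∧
    (sGens.all fun g => isM24P g && inCode (Nat.xor 15 (actP g 15))) = true ∧
    (sexInvol.all fun a => isM24P a && inCode (Nat.xor 15 (actP a 15))) = true ∧
    (tGens.all fun j => Nat.blt j 64) = true ∧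
    (evBasis.all fun m => Nat.blt m 16777216 && Nat.beq (pop m % 2) 0) = true := by
  decide +kernel

theorem fixed_check :
    ((List.range 24).all fun i => (List.range 24).all fun j =>
      !(sexInvol.all fun a => Nat.beq (getP a i) i == Nat.beq (getP a j) j) ||
        sexBase.all fun t => t.testBit i == t.testBit j) = true := by
  decide +kernel

theorem kernel_check :
    ((List.range 192).all fun i =>
      !(tGens.all fun j => Nat.beq (compP (getT 120 sexKerTbl i) (tEl j))
          (compP (tEl j) (getT 120 sexKerTbl i))) ||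
        oneOK (compP (getT 120 sexKerTbl i) (getT 120 sexKerTbl i))) = true := by
  decide +kernel

theorem pair_check :
    Nat.beq pairRep.length 23 = true ∧
    ((List.range 23).all fun i => vList.any fun m => Nat.beq m (pairRep.getD i 0)) = true ∧
    ((List.range 23).all fun i =>
      inCode (Nat.xor (pairRep.getD i 0) (Nat.xor (2 ^ i) (2 ^ 23)))) = true := by
  decide +kernel

theorem wGens_check :
    (wGens.all fun p => Nat.blt p.1 16777216 && Nat.beq (pop p.1 % 2) 0 && Nat.blt p.2 64) = true ∧
    (wMasks.all fun m => Nat.blt m 16777216) = true := by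
  decide +kernel

theorem cFix_check :
    isM24P cFix = true ∧ inCode (Nat.xor 15 (actP cFix 15)) = true ∧
    Nat.beq cFixW.length evBasis.length = true ∧ Nat.beq cFixPre.length 64 = true ∧
    ((evBasis.zip cFixW).all fun p =>
      inCode (Nat.xor (Nat.xor p.1 (actP cFix p.1)) p.2) && wList.any fun w => Nat.beq w p.2) = true ∧
    ((List.range 64).all fun j => Nat.blt (cFixPre.getD j 0) 64 &&
      Nat.beq (compP (tEl (cFixPre.getD j 0)) cFix)
        (compP (compP (tEl j) cFix) (tEl (cFixPre.getD j 0)))) = true := by
  decide +kernel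

/-- the entry of a generation table -/
def row (tbl : List (ℕ × ℕ × ℕ × ℕ)) (i : ℕ) : ℕ × ℕ × ℕ × ℕ := tbl.getD i (0, 0, 0, 0)

theorem down_check :
    Nat.beq (row downTbl 0).1 (row upTbl 0).1 = true ∧
    ((List.range downTbl.length).all fun i => Nat.blt (row downTbl i).1 64 && (Nat.beq i 0 ||
      (let r := row downTbl i
       Nat.blt r.2.2.2 i && Nat.blt r.2.2.1 sGens.length &&
        bif Nat.beq r.2.1 0 then conjOK (sEl r.2.2.1) (tEl r.1) (tEl (row downTbl r.2.2.2).1)
        else (List.range 64).any fun x => conjOK (sEl r.2.2.1) (tEl r.1) (tEl x) &&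
          mulOK (tEl r.1) (tEl x) (tEl (row downTbl r.2.2.2).1)))) = true ∧
    ((List.range 64).all fun j => oneOK (tEl j) ||
      (List.range downTbl.length).any fun i => Nat.beq (row downTbl i).1 j) = true := by
  decide +kernel

theorem up_check :
    ((List.range upTbl.length).all fun i => Nat.blt (row upTbl i).1 64 && (Nat.beq i 0 ||
      (let r := row upTbl i
       bif Nat.beq r.2.1 0 then Nat.blt r.2.2.2 i && Nat.blt r.2.2.1 sGens.length &&
          conjOK (sEl r.2.2.1) (tEl (row upTbl r.2.2.2).1) (tEl r.1)
        else Nat.blt r.2.2.1 i && Nat.blt r.2.2.2 i &&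
          mulOK (tEl (row upTbl r.2.2.1).1) (tEl (row upTbl r.2.2.2).1) (tEl r.1)))) = true ∧
    ((List.range 64).all fun j =>
      (List.range upTbl.length).any fun i => Nat.beq (row upTbl i).1 j) = true := by
  decide +kernel

/-- the representatives fixed by a packed permutation -/
def fixedReps (ρ : ℕ) : List ℕ := vList.filter fun m => inCode (Nat.xor m (actP ρ m))

/-- the check of one entry of a covering table -/
def covOK (ρ : ℕ) (e : ℕ × ℕ × ℕ × ℕ × ℕ) : Bool :=
  let v := e.1; let c := cEl e.2.1; let k := tEl e.2.2.1; let w := e.2.2.2.1; let m := e.2.2.2.2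
  Nat.blt e.2.2.1 64 && Nat.blt e.2.1 cList.length && (wList.any fun w' => Nat.beq w' w) &&
    Nat.blt m 16777216 && Nat.beq (pop m % 2) 0 && conjOK c ρ k &&
    inCode (Nat.xor (Nat.xor (actP c v) w) (Nat.xor m (actP k m)))

theorem cov_check :
    (cList.all isM24P) = true ∧
    fixedReps syl2Rep0 = covA.map (fun e => e.1) ∧ (covA.all (covOK syl2Rep0)) = true ∧
    fixedReps syl2Rep1 = covB.map (fun e => e.1) ∧ (covB.all (covOK syl2Rep1)) = true := by
  decide +kernel

end CfsgLib.Spor.JankoFourCentral
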