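import Cfsg.Agent.Lib.Spor.JankoFourCentral.Checks
import Cfsg.Agent.Lib.Spor.JankoFourCentral.CertData

/-!
Kernel checks of the witness tables on involutions of `Cfsg.M24`.
-/

set_option autoImplicit false
set_option maxRecDepth 100000

namespace CfsgLib.Spor.JankoFourCentral.Cert

open CfsgLib.Spor CfsgLib.Spor.JankoFourCentral

/-- a listed element of the Sylow 2-subgroup -/
def el (i : ℕ) : ℕ := getT 120 syl2Tbl i

/-- the `r`-th representative -/
def repEl (r : ℕ) : ℕ := el (repIdx.getD r 0)

/-- a fixed mask whose displacement is a tetrad, or no commuting pair -/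
def dispOK (ρ i : ℕ) (w : ℕ × ℕ) : Bool :=
  Nat.beq (el i) ρ || !Nat.beq (compP (el i) ρ) (compP ρ (el i)) ||
    (Nat.blt w.1 16777216 && Nat.blt w.2 16777216 && Nat.beq (pop w.1 % 2) 0 &&
      Nat.beq (pop w.2) 4 && inCode (Nat.xor (actP ρ w.1) w.1) &&
      inCode (Nat.xor (Nat.xor (actP (el i) w.1) w.1) w.2))

/-- a code mask, a duad class, or a sum of two tetrads, the first fixed -/
def secOK (ρ m : ℕ) (w : ℕ × ℕ) : Bool :=
  inCode m ||
    (Nat.blt w.1 16777216 && Nat.beq (pop w.1) 2 && inCode (Nat.xor m w.1)) ||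
    (Nat.blt w.1 16777216 && Nat.blt w.2 16777216 && Nat.beq (pop w.1) 4 && Nat.beq (pop w.2) 4 &&
      inCode (Nat.xor (actP ρ w.1) w.1) && inCode (Nat.xor (Nat.xor m w.1) w.2))

theorem inv_check :
    ((List.range 1024).all fun i =>
      Nat.beq i 0 || !Nat.beq (compP (el i) (el i)) idP || invIdx.any (Nat.beq i)) = true := by
  decide +kernel

theorem red_check :
    Nat.beq redTbl.length invIdx.length = true ∧ Nat.beq repIdx.length 25 = true ∧
    Nat.beq dispTbl.length 25 = true ∧
    (repIdx.all fun i => Nat.blt i 1024) = true ∧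
    ((invIdx.zip redTbl).all fun e => Nat.blt e.2.1 25 && Nat.blt e.2.2 1024 &&
      Nat.beq (compP (el e.2.2) (el e.1)) (compP (repEl e.2.1) (el e.2.2))) = true := by
  decide +kernel

theorem disp_check :
    ((List.range 25).all fun r => Nat.beq (dispTbl.getD r []).length invIdx.length &&
      (invIdx.zip (dispTbl.getD r [])).all fun e => dispOK (repEl r) e.1 e.2) = true := by
  decide +kernel

theorem sec_check :
    (Nat.beq secTbl0.length (fixedReps syl2Rep0).length &&
      ((fixedReps syl2Rep0).zip secTbl0).all fun e => secOK syl2Rep0 e.1 e.2) = true ∧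
    (Nat.beq secTbl1.length (fixedReps syl2Rep1).length &&
      ((fixedReps syl2Rep1).zip secTbl1).all fun e => secOK syl2Rep1 e.1 e.2) = true := by
  decide +kernel

theorem tet_check :
    (Nat.blt tetFix0 16777216 && Nat.beq (pop tetFix0) 4 &&
      inCode (Nat.xor (actP syl2Rep0 tetFix0) tetFix0)) = true ∧
    (Nat.blt tetFix1 16777216 && Nat.beq (pop tetFix1) 4 &&
      inCode (Nat.xor (actP syl2Rep1 tetFix1) tetFix1)) = true := by
  decide +kernel

end CfsgLib.Spor.JankoFourCentral.Cert
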