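import Cfsg.Agent.Lib.Spor.JankoFourCentral.Setting
import Cfsg.Agent.Lib.Spor.JankoFourCentral.CertChecks
import Cfsg.Agent.Lib.Spor.Classes

/-!
Finite facts about involutions of `Cfsg.M24` on the even Golay cocode: each fixes a tetrad class,
each fixed tetrad class is a sum of two fixed ones, and for two commuting involutions the
displacement of one on the classes fixed by the other contains a tetrad class.
-/

set_option autoImplicit false
set_option maxRecDepth 100000

namespace CfsgLib.Spor.JankoFourCentral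

open Cfsg CfsgLib.Spor CfsgLib.Spor.JankoFourCentral.Cert
open scoped Pointwise symmDiff

local notation "supC" => supports (golayCode : Set (GolayPt → ZMod 2))

theorem toSet_mem_supC_iff {m : ℕ} (hm : m < 2 ^ 24) :
    toSet m ∈ supC ↔ inCode m = true := by
  rw [mem_supports_iff_inCode, mask_toSet hm]

theorem symmDiff_mem_supC {s t : Finset GolayPt} (hs : s ∈ supC) (ht : t ∈ supC) :
    s ∆ t ∈ supC := by
  rw [mem_supports_iff_inCode] at *
  have e : mask (s ∆ t) = mask s ^^^ mask t := by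
    refine toSet_injOn (mask_lt _) (Nat.xor_lt_two_pow (mask_lt _) (mask_lt _)) ?_
    rw [toSet_xor]
    ext p
    simp only [mem_toSet, testBit_mask, Finset.mem_symmDiff, decide_eq_true_eq]
  rw [e]
  exact inCode_xor hs ht

theorem smul_mem_supC {c : Equiv.Perm GolayPt} (hc : c ∈ M24) {s : Finset GolayPt}
    (hs : s ∈ supC) : c • s ∈ supC :=
  mem_supports_iff.2 ((mem_M24_iff.1 hc) s (mem_supports_iff.1 hs))

/-- transport of a displacement along conjugation -/
theorem disp_conj (c ρ : Equiv.Perm GolayPt) (s : Finset GolayPt) :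
    ((c * ρ * c⁻¹) • (c • s)) ∆ (c • s) = c • ((ρ • s) ∆ s) := by
  rw [Finset.smul_finset_symmDiff, mul_smul, mul_smul, inv_smul_smul]

theorem disp_mask {σ : Equiv.Perm GolayPt} {a : ℕ} (h : Rep σ a) {m : ℕ} (hm : m < 2 ^ 24)
    (hc : inCode (actP a m ^^^ m) = true) : (σ • toSet m) ∆ toSet m ∈ supC := by
  rw [← h.toSet_actP, ← toSet_xor, toSet_mem_supC_iff (Nat.xor_lt_two_pow (h.actP_lt m) hm)]
  exact hc

theorem zero_mem_vList : (0 : ℕ) ∈ vList := by decide +kernel

theorem inCode_zero : inCode 0 = true := by decide +kernel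

theorem toSet_two_pow_idx (q : GolayPt) : toSet (2 ^ idx q) = {q} := by
  ext r
  rw [mem_toSet, Nat.testBit_two_pow, decide_eq_true_eq, Finset.mem_singleton]
  exact ⟨fun h => idx_injective h.symm, fun h => by rw [h]⟩

theorem two_pow_idx_lt (q : GolayPt) : 2 ^ idx q < 2 ^ 24 :=
  Nat.pow_lt_pow_right (by norm_num) (idx_lt q)

theorem mask_insert {p : GolayPt} {t : Finset GolayPt} (hp : p ∉ t) :
    mask (insert p t) = mask t ^^^ 2 ^ idx p := by
  refine toSet_injOn (mask_lt _) (Nat.xor_lt_two_pow (mask_lt _) (two_pow_idx_lt p)) ?_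
  rw [toSet_xor, toSet_two_pow_idx, toSet_mask, toSet_mask]
  ext q
  simp only [Finset.mem_insert, Finset.mem_symmDiff, Finset.mem_singleton]
  constructor
  · rintro (rfl | h)
    · exact Or.inr ⟨rfl, hp⟩
    · exact Or.inl ⟨h, fun e => hp (e ▸ h)⟩
  · tauto

/-- the single points differ from the last point by listed masks -/
theorem exists_point (p : GolayPt) :
    ∃ n ∈ vList, inCode (n ^^^ (2 ^ idx p ^^^ 2 ^ 23)) = true := by
  by_cases hlt : idx p < 23
  · obtain ⟨-, hin, hcode⟩ := pair_check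
    simp only [List.all_eq_true, List.mem_range, List.any_eq_true, Nat.beq_eq] at hin hcode
    obtain ⟨n, hn, hne⟩ := hin _ hlt
    exact ⟨n, hn, by rw [hne]; exact hcode _ hlt⟩
  · refine ⟨0, zero_mem_vList, ?_⟩
    have e : idx p = 23 := by have h1 := idx_lt p; omega
    rw [e, Nat.xor_self, Nat.xor_self]
    exact inCode_zero

theorem exists_vList_mask : ∀ t : Finset GolayPt, ∃ m ∈ vList,
    inCode (m ^^^ (mask t ^^^ (if Even t.card then 0 else 2 ^ 23))) = true := by
  intro t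
  induction t using Finset.induction_on with
  | empty =>
    refine ⟨0, zero_mem_vList, ?_⟩
    rw [Finset.card_empty, if_pos (by decide : Even 0), mask_empty, Nat.xor_self, Nat.xor_self]
    exact inCode_zero
  | insert p t hp ih =>
    obtain ⟨m, hm, hmc⟩ := ih
    obtain ⟨n, hn, hnc⟩ := exists_point p
    refine ⟨n ^^^ m, vList_xor hn hm, ?_⟩
    have h := inCode_xor hnc hmc
    rw [mask_insert hp, Finset.card_insert_of_notMem hp]
    generalize 2 ^ idx p = a at h ⊢
    generalize mask t = b at h ⊢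
    generalize (2 : ℕ) ^ 23 = c at h ⊢
    have key : ∀ d e : ℕ, d = (if Even t.card then 0 else c) →
        e = (if Even (t.card + 1) then 0 else c) → c ^^^ d = e := by
      intro d e hd he
      by_cases hev : Even t.card
      · rw [if_pos hev] at hd
        rw [if_neg (by simp [Nat.even_add_one, hev])] at he
        rw [hd, he, Nat.xor_zero]
      · rw [if_neg hev] at hd
        rw [if_pos (by simp [Nat.even_add_one, hev])] at he
        rw [hd, he, Nat.xor_self]
    rw [← key _ _ rfl rfl]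
    convert h using 2
    ac_rfl

/-- every even subset is a class of a listed mask -/
theorem exists_vList {s : Finset GolayPt} (hs : Even s.card) :
    ∃ m ∈ vList, toSet m ∆ s ∈ supC := by
  obtain ⟨m, hm, hmc⟩ := exists_vList_mask s
  rw [if_pos hs, Nat.xor_zero] at hmc
  refine ⟨m, hm, ?_⟩
  rw [← toSet_mask s, ← toSet_xor,
    toSet_mem_supC_iff (Nat.xor_lt_two_pow (ev_vList hm).1 (mask_lt s))]
  exact hmc

/-- every involution fixes the class of some tetrad -/
theorem exists_fixed_tetrad {σ : ↥Cfsg.M24} (hσ : orderOf σ = 2) :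
    ∃ t : Finset GolayPt, t.card = 4 ∧ ((σ : Equiv.Perm GolayPt) • t) ∆ t ∈ supC := by
  have ho : orderOf (σ : Equiv.Perm GolayPt) = 2 := by rw [Subgroup.orderOf_coe]; exact hσ
  obtain ⟨h0, h1⟩ := tet_check
  simp only [Bool.and_eq_true, Nat.blt_eq, Nat.beq_eq] at h0 h1
  rcases exists_invol σ.2 ho with ⟨ρ, -, hr, -, c, hc, e⟩ | ⟨ρ, -, hr, -, c, hc, e⟩
  · refine ⟨c • toSet tetFix0, by rw [Finset.card_smul_finset, card_toSet]; exact h0.1.2, ?_⟩
    rw [e, disp_conj]
    exact smul_mem_supC hc (disp_mask hr h0.1.1 h0.2)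
  · refine ⟨c • toSet tetFix1, by rw [Finset.card_smul_finset, card_toSet]; exact h1.1.2, ?_⟩
    rw [e, disp_conj]
    exact smul_mem_supC hc (disp_mask hr h1.1.1 h1.2)

theorem symmDiff_aux1 (a b c d : Finset GolayPt) : (a ∆ b) ∆ (c ∆ d) ∆ (b ∆ d) = a ∆ c := by
  ext q
  simp only [Finset.mem_symmDiff]
  tauto

theorem symmDiff_aux2 (m s p : Finset GolayPt) : (m ∆ s) ∆ (m ∆ p) = s ∆ p := by
  ext q
  simp only [Finset.mem_symmDiff]
  tauto

theorem symmDiff_aux3 (m s u v : Finset GolayPt) : (m ∆ s) ∆ (m ∆ u ∆ v) = s ∆ u ∆ v := by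
  ext q
  simp only [Finset.mem_symmDiff]
  tauto

theorem smul_toSet_fix {ρ : Equiv.Perm GolayPt} {r m : ℕ} {s : Finset GolayPt} (hρ : ρ ∈ M24)
    (hr : Rep ρ r) (hm : m < 2 ^ 24) (hfix : (ρ • s) ∆ s ∈ supC) (hms : toSet m ∆ s ∈ supC) :
    inCode (actP r m ^^^ m) = true := by
  have h1 := symmDiff_mem_supC (symmDiff_mem_supC (smul_mem_supC hρ hms) hms) hfix
  rw [← toSet_mem_supC_iff (Nat.xor_lt_two_pow (hr.actP_lt m) hm), toSet_xor, hr.toSet_actP]
  rw [Finset.smul_finset_symmDiff, symmDiff_aux1] at h1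
  exact h1

theorem exists_fixed_second_rep {ρ : Equiv.Perm GolayPt} {r : ℕ} (hρ : ρ ∈ M24) (hr : Rep ρ r)
    {tbl : List (ℕ × ℕ)} (hlen : tbl.length = (fixedReps r).length)
    (hok : ((fixedReps r).zip tbl).all (fun e => secOK r e.1 e.2) = true)
    {s : Finset GolayPt} (hs : Even s.card) (hfix : (ρ • s) ∆ s ∈ supC) (h0 : s ∉ supC)
    (hnd : ∀ P : Finset GolayPt, P.card = 2 → s ∆ P ∉ supC) :
    ∃ u v : Finset GolayPt, u.card = 4 ∧ v.card = 4 ∧ (ρ • u) ∆ u ∈ supC ∧
      s ∆ u ∆ v ∈ supC := by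
  obtain ⟨m, hm, hms⟩ := exists_vList hs
  have hmlt := (ev_vList hm).1
  have hmfix : m ∈ fixedReps r := by
    refine List.mem_filter.2 ⟨hm, ?_⟩
    have h1 := smul_toSet_fix hρ hr hmlt hfix hms
    rwa [Nat.xor_comm] at h1
  obtain ⟨i, hi, rfl⟩ := List.mem_iff_getElem.1 hmfix
  have hz : i < ((fixedReps r).zip tbl).length := by simp; omega
  have := List.all_eq_true.1 hok _ (List.getElem_mem hz)
  rw [List.getElem_zip] at this
  simp only [secOK, Bool.or_eq_true, Bool.and_eq_true, Nat.blt_eq, Nat.beq_eq] at this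
  generalize tbl[i] = w at this
  generalize (fixedReps r)[i] = m at hms hmlt this
  rcases this with (h | ⟨⟨hw, hp⟩, hc⟩) | ⟨⟨⟨⟨⟨hw1, hw2⟩, hp1⟩, hp2⟩, hf⟩, hc⟩
  · refine absurd ?_ h0
    have h1 := symmDiff_mem_supC ((toSet_mem_supC_iff hmlt).2 h) hms
    rwa [symmDiff_symmDiff_cancel_left] at h1
  · refine absurd ?_ (hnd (toSet w.1) (by rw [card_toSet]; exact hp))
    have h1 := symmDiff_mem_supC hms ((toSet_mem_supC_iff (Nat.xor_lt_two_pow hmlt hw)).2 hc)
    rw [toSet_xor, symmDiff_comm (toSet _) s, symmDiff_comm s (toSet _), symmDiff_aux2] at h1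
    exact h1
  · refine ⟨toSet w.1, toSet w.2, by rw [card_toSet]; exact hp1, by rw [card_toSet]; exact hp2,
      disp_mask hr hw1 hf, ?_⟩
    have h1 := symmDiff_mem_supC hms ((toSet_mem_supC_iff
      (Nat.xor_lt_two_pow (Nat.xor_lt_two_pow hmlt hw1) hw2)).2 hc)
    rw [toSet_xor, toSet_xor, symmDiff_aux3] at h1
    exact h1

theorem exists_fixed_second {σ : ↥Cfsg.M24} (hσ : orderOf σ = 2) {s : Finset GolayPt}
    (hs : Even s.card) (hfix : ((σ : Equiv.Perm GolayPt) • s) ∆ s ∈ supC) (h0 : s ∉ supC)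
    (hnd : ∀ P : Finset GolayPt, P.card = 2 → s ∆ P ∉ supC) :
    ∃ u v : Finset GolayPt, u.card = 4 ∧ v.card = 4 ∧
      ((σ : Equiv.Perm GolayPt) • u) ∆ u ∈ supC ∧ s ∆ u ∆ v ∈ supC := by
  have ho : orderOf (σ : Equiv.Perm GolayPt) = 2 := by rw [Subgroup.orderOf_coe]; exact hσ
  obtain ⟨hs0, hs1⟩ := sec_check
  simp only [Bool.and_eq_true, Nat.beq_eq] at hs0 hs1
  obtain ⟨ρ, hρ, c, hc, e, r, hr, tbl, hlen, hok⟩ : ∃ ρ, ρ ∈ M24 ∧ ∃ c, c ∈ M24 ∧
      (σ : Equiv.Perm GolayPt) = c * ρ * c⁻¹ ∧ ∃ r, Rep ρ r ∧ ∃ tbl : List (ℕ × ℕ),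
        tbl.length = (fixedReps r).length ∧
        ((fixedReps r).zip tbl).all (fun e => secOK r e.1 e.2) = true := by
    rcases exists_invol σ.2 ho with ⟨ρ, hρ, hr, -, c, hc, e⟩ | ⟨ρ, hρ, hr, -, c, hc, e⟩
    · exact ⟨ρ, hρ, c, hc, e, _, hr, secTbl0, hs0.1, hs0.2⟩
    · exact ⟨ρ, hρ, c, hc, e, _, hr, secTbl1, hs1.1, hs1.2⟩
  have hback : ∀ {a : Finset GolayPt}, c • a ∈ supC → a ∈ supC := fun {a} h => by
    have h1 := smul_mem_supC (inv_mem hc) h
    rwa [inv_smul_smul] at h1
  obtain ⟨u, v, hu, hv, hfu, huv⟩ := exists_fixed_second_rep hρ hr hlen hok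
    (s := c⁻¹ • s) (by rwa [Finset.card_smul_finset])
    (hback (by rwa [← disp_conj, smul_inv_smul, ← e]))
    (fun h => h0 (by have := smul_mem_supC hc h; rwa [smul_inv_smul] at this))
    (fun P hP h => hnd (c • P) (by rwa [Finset.card_smul_finset]) (by
      have := smul_mem_supC hc h
      rwa [Finset.smul_finset_symmDiff, smul_inv_smul] at this))
  refine ⟨c • u, c • v, by rwa [Finset.card_smul_finset], by rwa [Finset.card_smul_finset], ?_, ?_⟩
  · rw [e, disp_conj]; exact smul_mem_supC hc hfu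
  · have := smul_mem_supC hc huv
    rwa [Finset.smul_finset_symmDiff, Finset.smul_finset_symmDiff, smul_inv_smul] at this

/-- two commuting involutions lie in the listed Sylow subgroup up to conjugation -/
theorem exists_conj_pair {k k' : ↥Cfsg.M24} (hk : orderOf k = 2) (hk' : orderOf k' = 2)
    (hc : k * k' = k' * k) : ∃ g : ↥Cfsg.M24,
      ((g * k * g⁻¹ : ↥Cfsg.M24) : Equiv.Perm GolayPt) ∈ genGroup syl2Gens ∧
      ((g * k' * g⁻¹ : ↥Cfsg.M24) : Equiv.Perm GolayPt) ∈ genGroup syl2Gens := by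
  set P := (genGroup syl2Gens).subgroupOf M24
  have hcard : Nat.card P = 1024 := by
    rw [Nat.card_congr (Subgroup.subgroupOfEquivOfLe (genGroup_le _)).toEquiv,
      natCard_genGroup syl2_listed]
  have : Fact (Nat.Prime 2) := ⟨Nat.prime_two⟩
  have hPp : IsPGroup 2 P := IsPGroup.of_card (n := 10) (hcard ▸ by norm_num)
  have hidx : P.index = 239085 := by
    have := P.card_mul_index
    rw [hcard, natCard_M24] at this
    omega
  let S : Sylow 2 ↥M24 := hPp.toSylow (hidx ▸ by norm_num)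
  have hk2 : k * k = 1 := by rw [← pow_two, ← hk]; exact pow_orderOf_eq_one k
  have hk'2 : k' * k' = 1 := by rw [← pow_two, ← hk']; exact pow_orderOf_eq_one k'
  have hH : IsPGroup 2 (Subgroup.closure ({k, k'} : Set ↥M24)) := by
    have hcent : ∀ x ∈ Subgroup.closure ({k, k'} : Set ↥M24), Commute x k ∧ Commute x k' := by
      intro x hx
      induction hx using Subgroup.closure_induction with
      | mem y hy =>
        rcases hy with rfl | rfl
        · exact ⟨Commute.refl _, hc⟩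
        · exact ⟨hc.symm, Commute.refl _⟩
      | one => exact ⟨Commute.one_left _, Commute.one_left _⟩
      | inv y _ h => exact ⟨h.1.inv_left, h.2.inv_left⟩
      | mul a b _ _ h h' => exact ⟨h.1.mul_left h'.1, h.2.mul_left h'.2⟩
    have hab : ∀ a ∈ Subgroup.closure ({k, k'} : Set ↥M24),
        ∀ b ∈ Subgroup.closure ({k, k'} : Set ↥M24), Commute a b := by
      intro a ha b hb
      induction hb using Subgroup.closure_induction with
      | mem y hy =>
        rcases hy with rfl | rfl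
        · exact (hcent a ha).1
        · exact (hcent a ha).2
      | one => exact Commute.one_right _
      | inv y _ h => exact h.inv_right
      | mul b b' _ _ h h' => exact h.mul_right h'
    have hsq : ∀ x ∈ Subgroup.closure ({k, k'} : Set ↥M24), x * x = 1 := by
      intro x hx
      induction hx using Subgroup.closure_induction with
      | mem y hy => rcases hy with rfl | rfl <;> assumption
      | one => exact one_mul 1
      | inv y _ h => rw [← mul_inv_rev, h, inv_one]
      | mul a b ha hb h h' =>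
        calc a * b * (a * b) = a * (b * a) * b := by group
          _ = a * (a * b) * b := by rw [(hab a ha b hb).eq]
          _ = (a * a) * (b * b) := by group
          _ = 1 := by rw [h, h', one_mul]
    rintro ⟨x, hx⟩
    refine ⟨1, Subtype.ext ?_⟩
    show x ^ (2 ^ 1) = 1
    rw [pow_one, pow_two]
    exact hsq x hx
  obtain ⟨T, hT⟩ := hH.exists_le_sylow
  obtain ⟨g, hg⟩ := MulAction.exists_smul_eq ↥M24 T S
  have hmem : ∀ x ∈ ({k, k'} : Set ↥M24), g * x * g⁻¹ ∈ P := fun x hx => by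
    have h1 : MulAut.conj g • x ∈ (g • T : Sylow 2 ↥M24) :=
      Subgroup.smul_mem_pointwise_smul _ _ _ (hT (Subgroup.subset_closure hx))
    rw [hg] at h1
    exact h1
  exact ⟨g, Subgroup.mem_subgroupOf.1 (hmem k (by simp)),
    Subgroup.mem_subgroupOf.1 (hmem k' (by simp))⟩

/-- involutions of the listed subgroup have listed indices -/
theorem exists_invIdx {τ : Equiv.Perm GolayPt} (h : τ ∈ genGroup syl2Gens) (h1 : τ ≠ 1)
    (h2 : τ * τ = 1) : ∃ i ∈ invIdx, Rep τ (el i) := by
  obtain ⟨i, hi, hir⟩ := listed_complete syl2_listed h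
  refine ⟨i, ?_, hir⟩
  have := List.all_eq_true.1 inv_check i (List.mem_range.2 hi)
  simp only [Bool.or_eq_true, Nat.beq_eq, Bool.not_eq_true', List.any_eq_true] at this
  rcases this with (rfl | h3) | ⟨j, hj, rfl⟩
  · refine absurd (hir.inj ?_) h1
    have h0 : getT 120 syl2Tbl 0 = packL (List.range 24) := by decide +kernel
    show Rep 1 (getT 120 syl2Tbl 0)
    rw [h0]; exact rep_one
  · have h4 : compP (el i) (el i) = idP := by
      rw [show compP (el i) (el i) = packL ((List.range 24).map fun j => idx ((τ * τ) (pt j))) from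
        hir.compP_eq hir, h2]
      exact congrArg packL ((List.map_congr_left fun j hj =>
        idx_pt (List.mem_range.1 hj)).trans (List.map_id _))
    rw [h4, show Nat.beq idP idP = true from Nat.beq_refl _] at h3
    exact absurd h3 (by simp)
  · exact hj

theorem exists_of_zip_all {α β : Type*} {l : List α} {l' : List β} {f : α × β → Bool}
    (hlen : l'.length = l.length) (h : (l.zip l').all f = true) {x : α} (hx : x ∈ l) :
    ∃ y, f (x, y) = true := by
  obtain ⟨n, hn, rfl⟩ := List.mem_iff_getElem.1 hx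
  have hz : n < (l.zip l').length := by simp; omega
  have h1 := List.all_eq_true.1 h _ (List.getElem_mem hz)
  rw [List.getElem_zip] at h1
  exact ⟨_, h1⟩

theorem exists_fixed_disp {k k' : ↥Cfsg.M24} (hk : orderOf k = 2) (hk' : orderOf k' = 2)
    (hc : k * k' = k' * k) (hne : k ≠ k') : ∃ s t : Finset GolayPt, Even s.card ∧
      ((k' : Equiv.Perm GolayPt) • s) ∆ s ∈ supC ∧ t.card = 4 ∧
      ((k : Equiv.Perm GolayPt) • s) ∆ s ∆ t ∈ supC := by
  obtain ⟨g0, hga, hgb⟩ := exists_conj_pair hk hk' hc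
  obtain ⟨hrl, hrn, -, hrep, hred⟩ := red_check
  rw [Nat.beq_eq] at hrl hrn
  rw [List.all_eq_true] at hrep
  have sq : ∀ {x : ↥M24}, orderOf x = 2 → x * x = 1 := fun {x} h => by
    rw [← pow_two, ← h]; exact pow_orderOf_eq_one x
  have conjsq : ∀ {g x : ↥M24}, x * x = 1 → (g * x * g⁻¹) * (g * x * g⁻¹) = 1 := fun {g x} h => by
    calc (g * x * g⁻¹) * (g * x * g⁻¹) = g * (x * x) * g⁻¹ := by group
      _ = 1 := by rw [h]; group
  have conjne : ∀ {g x : ↥M24}, orderOf x = 2 → ((g * x * g⁻¹ : ↥M24) : Equiv.Perm GolayPt) ≠ 1 :=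
    fun {g x} h e => by
      have e' : g * x * g⁻¹ = 1 := Subtype.ext e
      rw [conj_eq_one_iff] at e'
      rw [e', orderOf_one] at h
      exact absurd h (by norm_num)
  obtain ⟨i', hi', hi'r⟩ := exists_invIdx hgb (conjne hk')
    (congrArg Subtype.val (conjsq (sq hk')))
  obtain ⟨⟨rr, j⟩, hw0⟩ := exists_of_zip_all hrl hred hi'
  simp only [Bool.and_eq_true, Nat.blt_eq, Nat.beq_eq] at hw0
  obtain ⟨⟨hr25, hj⟩, hconj⟩ := hw0
  obtain ⟨γ, hγ, hγr⟩ := listed_mem syl2_listed hj
  have hrlt : repIdx.getD rr 0 < 1024 := by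
    have : rr < repIdx.length := hrn.symm ▸ hr25
    rw [List.getD_eq_getElem _ _ this]
    have h' := hrep _ (List.getElem_mem this)
    rwa [Nat.blt_eq] at h'
  obtain ⟨ρ, hρ, hρr⟩ := listed_mem syl2_listed hrlt
  let γ' : ↥M24 := ⟨γ, genGroup_le _ hγ⟩
  let ρ' : ↥M24 := ⟨ρ, genGroup_le _ hρ⟩
  have hρr' : Rep ρ (repEl rr) := hρr
  have hγr' : Rep γ (el j) := hγr
  have hγρ : γ' * (g0 * k' * g0⁻¹) = ρ' * γ' := by
    refine Subtype.ext ((hγr'.mul hi'r).inj ?_)
    have h3 := hρr'.mul hγr'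
    rw [← hconj] at h3
    exact h3
  set g := γ' * g0 with hg
  have hgk' : g * k' * g⁻¹ = ρ' := by
    calc g * k' * g⁻¹ = γ' * (g0 * k' * g0⁻¹) * γ'⁻¹ := by rw [hg]; group
      _ = ρ' := by rw [hγρ]; group
  have hgk : ((g * k * g⁻¹ : ↥M24) : Equiv.Perm GolayPt) ∈ genGroup syl2Gens := by
    rw [show g * k * g⁻¹ = γ' * (g0 * k * g0⁻¹) * γ'⁻¹ by rw [hg]; group]
    exact mul_mem (mul_mem hγ hga) (inv_mem hγ)
  obtain ⟨i, hi, hir⟩ := exists_invIdx hgk (conjne hk) (congrArg Subtype.val (conjsq (sq hk)))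
  have hd := List.all_eq_true.1 disp_check rr (List.mem_range.2 hr25)
  rw [Bool.and_eq_true, Nat.beq_eq] at hd
  obtain ⟨w, hw⟩ := exists_of_zip_all hd.1 hd.2 hi
  simp only [dispOK, Bool.or_eq_true, Bool.and_eq_true, Bool.not_eq_true', Nat.beq_eq,
    Nat.blt_eq] at hw
  rcases hw with (h | h) | ⟨⟨⟨⟨⟨hw1, hw2⟩, hev⟩, hp⟩, hfx⟩, hdp⟩
  · refine absurd ?_ hne
    have e : g * k * g⁻¹ = g * k' * g⁻¹ := by
      rw [hgk']; refine Subtype.ext (hir.inj ?_); rw [h]; exact hρr'
    exact mul_left_cancel (mul_right_cancel e)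
  · exfalso
    have hcm : (g * k * g⁻¹) * (g * k' * g⁻¹) = (g * k' * g⁻¹) * (g * k * g⁻¹) := by
      calc (g * k * g⁻¹) * (g * k' * g⁻¹) = g * (k * k') * g⁻¹ := by group
        _ = g * (k' * k) * g⁻¹ := by rw [hc]
        _ = _ := by group
    have he : compP (el i) (repEl rr) = compP (repEl rr) (el i) := by
      rw [hgk'] at hcm
      rw [hir.compP_eq hρr', hρr'.compP_eq hir]
      exact congrArg packL (List.map_congr_left fun i _ => by
        rw [show ((g * k * g⁻¹ : ↥M24) : Equiv.Perm GolayPt) * ρ =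
          ρ * ((g * k * g⁻¹ : ↥M24) : Equiv.Perm GolayPt) from congrArg Subtype.val hcm])
    rw [he] at h
    rw [show ∀ x : ℕ, Nat.beq x x = true from fun x => Nat.beq_refl x] at h
    exact absurd h (by simp)
  · have hb : ∀ {x : Finset GolayPt}, x ∈ supC → ((g⁻¹ : ↥M24) : Equiv.Perm GolayPt) • x ∈ supC :=
      fun h => smul_mem_supC (g⁻¹ : ↥M24).2 h
    set c : Equiv.Perm GolayPt := ((g⁻¹ : ↥M24) : Equiv.Perm GolayPt) with hcdef
    have hk'e : (k' : Equiv.Perm GolayPt) = c * ρ * c⁻¹ := by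
      have : k' = g⁻¹ * ρ' * g⁻¹⁻¹ := by rw [← hgk']; group
      exact congrArg Subtype.val this
    have hke : (k : Equiv.Perm GolayPt) = c * ((g * k * g⁻¹ : ↥M24) : Equiv.Perm GolayPt) * c⁻¹ := by
      have : k = g⁻¹ * (g * k * g⁻¹) * g⁻¹⁻¹ := by group
      exact congrArg Subtype.val this
    refine ⟨c • toSet w.1, c • toSet w.2, ?_, ?_, ?_, ?_⟩
    · rw [Finset.card_smul_finset, card_toSet, Nat.even_iff]; exact hev
    · rw [hk'e, disp_conj]; exact hb (disp_mask hρr hw1 hfx)
    · rw [Finset.card_smul_finset, card_toSet]; exact hp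
    · rw [hke, disp_conj, ← Finset.smul_finset_symmDiff]
      refine hb ?_
      rw [← hir.toSet_actP, ← toSet_xor, ← toSet_xor, toSet_mem_supC_iff
        (Nat.xor_lt_two_pow (Nat.xor_lt_two_pow (hir.actP_lt _) hw1) hw2)]
      exact hdp

end CfsgLib.Spor.JankoFourCentral
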