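import Cfsg.Agent.Lib.Spor.JankoFourCentral.LocalPairs
import Cfsg.Agent.Lib.Spor.JankoFourCentral.Cert

/-!
In a group of Janko-four type the centraliser of a duad vector normalises the elementary abelian
subgroup of order `2^11`.
-/

set_option autoImplicit false
set_option maxRecDepth 100000

namespace CfsgLib.Spor.JankoFourCentral

open Cfsg CfsgLib.Spor CfsgLib.Base
open scoped Pointwise symmDiff

local notation "supC" => supports (golayCode : Set (GolayPt → ZMod 2))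

theorem exists_outer {c : GolayPt} (h0 : c ≠ pt 0) (h1 : c ≠ pt 1) :
    ∃ T U₀ U₁ U₂ : ℕ, pop T = 4 ∧ pop U₀ = 4 ∧ pop U₁ = 4 ∧ pop U₂ = 4 ∧ Ev T ∧ Ev U₀ ∧ Ev U₁ ∧
      Ev U₂ ∧ inCode (T ^^^ 3 ^^^ U₀) = true ∧ inCode (T ^^^ mask {pt 0, c} ^^^ U₁) = true ∧
      inCode (T ^^^ mask {pt 1, c} ^^^ U₂) = true := by
  have hchk := outer_check
  simp only [List.all_eq_true, List.mem_range, Bool.or_eq_true, List.any_eq_true,
    Bool.and_eq_true, Nat.beq_eq, Nat.blt_eq] at hchk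
  have hne0 : idx c ≠ 0 := fun h => h0 (by rw [← pt_idx c, h])
  have hne1 : idx c ≠ 1 := fun h => h1 (by rw [← pt_idx c, h])
  rcases hchk (idx c) (idx_lt c) with h | ⟨⟨c', T, U₀, U₁, U₂⟩, -, h⟩
  · exact absurd h (by omega)
  obtain ⟨⟨⟨⟨⟨⟨⟨⟨⟨⟨⟨hc, hl⟩, hp⟩, hp0⟩, hp1⟩, hp2⟩, hl0⟩, hl1⟩, hl2⟩, hi0⟩, hi1⟩, hi2⟩ := h
  have hm : ∀ i, i < 24 → i ≠ idx c → mask {pt i, c} = 2 ^ i ^^^ 2 ^ idx c := by
    intro i hi hne
    conv_lhs => rw [← pt_idx c]
    rw [← toSet_pair hi (idx_lt c) hne, mask_toSet (Nat.xor_lt_two_pow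
      (Nat.pow_lt_pow_right (by norm_num) hi) (Nat.pow_lt_pow_right (by norm_num) (idx_lt c)))]
  refine ⟨T, U₀, U₁, U₂, hp, hp0, hp1, hp2, ev_of_check hl (by rw [hp]),
    ev_of_check hl0 (by rw [hp0]), ev_of_check hl1 (by rw [hp1]), ev_of_check hl2 (by rw [hp2]),
    hi0, ?_, ?_⟩
  · rw [hm 0 (by norm_num) hne0.symm]; exact hi1
  · rw [hm 1 (by norm_num) hne1.symm]; exact hi2

namespace Eleven

variable {G : Type*} [Group G] [Finite G] {z : G} {A : Type*} [AddCommGroup A] (D : Eleven z A)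

theorem decompose_unique {u u' : G} {σ σ' : M24} (hu : u ∈ D.V) (hu' : u' ∈ D.V)
    (h : u * D.L σ = u' * D.L σ') : σ = σ' := by
  have h2 : D.L σ * (D.L σ')⁻¹ ∈ D.K ⊓ D.V := by
    refine Subgroup.mem_inf.2 ⟨mul_mem (D.L_mem_K _) (inv_mem (D.L_mem_K _)), ?_⟩
    rw [show D.L σ * (D.L σ')⁻¹ = u⁻¹ * u' * (u'⁻¹ * (u * D.L σ) * (D.L σ')⁻¹) by group, h,
      show u'⁻¹ * (u' * D.L σ') * (D.L σ')⁻¹ = 1 by group, mul_one]
    exact mul_mem (inv_mem hu) hu'
  rw [D.inf, Subgroup.mem_bot, mul_inv_eq_one] at h2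
  exact D.L_inj h2

theorem mul_decompose {u u' : G} (σ σ' : M24) (hu : u ∈ D.V) (hu' : u' ∈ D.V) :
    ∃ w ∈ D.V, u * D.L σ * (u' * D.L σ') = w * D.L (σ * σ') :=
  ⟨u * (D.L σ * u' * (D.L σ)⁻¹), mul_mem hu (D.L_conj_mem σ hu'), by rw [D.L_mul]; group⟩

/-- an involution of the normaliser outside the subgroup -/
theorem exists_image {y : G} (hy : y ∈ Subgroup.normalizer (D.V : Set G)) (hy2 : y * y = 1)
    (hyV : y ∉ D.V) :
    ∃ u ∈ D.V, ∃ σ : M24, y = u * D.L σ ∧ orderOf σ = 2 := by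
  obtain ⟨u, hu, σ, rfl⟩ := D.decompose hy
  refine ⟨u, hu, σ, rfl, orderOf_eq_prime ?_ ?_⟩
  · obtain ⟨w, hw, e⟩ := D.mul_decompose σ σ hu hu
    rw [hy2] at e
    rw [pow_two]
    exact (D.decompose_unique (one_mem _) hw (by rw [D.L_one, one_mul, e] : (1 : G) * D.L 1 = _)).symm
  · rintro rfl
    rw [D.L_one, mul_one] at hyV
    exact hyV hu

theorem conj_vs {u : G} (σ : M24) (hu : u ∈ D.V) {s : Finset GolayPt} (hs : Even s.card) :
    u * D.L σ * D.vs s * (u * D.L σ)⁻¹ = D.vs ((σ : Equiv.Perm GolayPt) • s) := by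
  rw [show u * D.L σ * D.vs s * (u * D.L σ)⁻¹ = u * (D.L σ * D.vs s * (D.L σ)⁻¹) * u⁻¹ by group,
    D.L_vs σ hs, D.V_comm hu (D.vs_mem _), mul_inv_cancel_right]

theorem comm_vs_iff {u : G} (σ : M24) (hu : u ∈ D.V) {s : Finset GolayPt} (hs : Even s.card) :
    u * D.L σ * D.vs s = D.vs s * (u * D.L σ) ↔ ((σ : Equiv.Perm GolayPt) • s) ∆ s ∈ supC := by
  rw [← D.vs_eq_iff (by rwa [Finset.card_smul_finset]) hs, ← D.conj_vs σ hu hs,
    mul_inv_eq_iff_eq_mul]

/-- an element centralising a duad vector and moving a vector conjugate to `z` into the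
normaliser -/
theorem pair_into (hJ : Cfsg.IsOfJankoFourTypeAt z) {t v g : G} (ht : t ∈ D.V) (hv : v ∈ D.V)
    (ht1 : t ≠ 1) (htz : ¬ IsConj z t) (hvz : IsConj z v) (hgt : g * t = t * g)
    (hy : g * v * g⁻¹ ∈ Subgroup.normalizer (D.V : Set G)) :
    g ∈ Subgroup.normalizer (D.V : Set G) := by
  set y := g * v * g⁻¹ with hydef
  by_cases hyV : y ∈ D.V
  · exact D.pair_back hJ ht hv ht1 htz hvz hgt hyV
  have hgt' : g⁻¹ * t = t * g⁻¹ := ((show Commute g t from hgt).inv_left).eq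
  have hy2 : y * y = 1 := by
    rw [hydef, show g * v * g⁻¹ * (g * v * g⁻¹) = g * (v * v) * g⁻¹ by group, D.V_sq hv]
    group
  obtain ⟨u, hu, σ, hyσ, hσ⟩ := D.exists_image hy hy2 hyV
  -- a vector conjugate to `z` fixed by `y`
  obtain ⟨T, hT, hTfix⟩ := exists_fixed_tetrad hσ
  have hTev : Even T.card := by rw [hT]; decide
  have hqy : y * D.vs T = D.vs T * y := by rw [hyσ]; exact (D.comm_vs_iff σ hu hTev).2 hTfix
  set p := g⁻¹ * D.vs T * g with hpdef
  have hpt : p * t = t * p := by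
    have := comm_back (D.V_comm (D.vs_mem T) ht) hgt'
    rwa [inv_inv] at this
  have hpv : p * v = v * p := by
    have := comm_conj (g := g⁻¹) hqy.symm
    rwa [inv_inv, show g⁻¹ * y * g = v by rw [hydef]; group] at this
  have hpz : IsConj z p := by
    have := (isConj_conj (g := g⁻¹)).2 (D.isConj_tetrad hT)
    rwa [inv_inv] at this
  have hgp : g * p * g⁻¹ = D.vs T := by rw [hpdef]; group
  by_cases hpV : p ∈ D.V
  · exact D.pair_back hJ ht hpV ht1 htz hpz hgt (by rw [hgp]; exact D.vs_mem T)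
  have hpN := D.cent_pair hJ ht hv ht1 htz hvz hpt hpv
  have hp2 : p * p = 1 := by
    rw [hpdef, show g⁻¹ * D.vs T * g * (g⁻¹ * D.vs T * g) = g⁻¹ * (D.vs T * D.vs T) * g by group,
      D.V_sq (D.vs_mem T)]
    group
  obtain ⟨w, hw, π, hpπ, hπ⟩ := D.exists_image hpN hp2 hpV
  -- a second vector fixed by the pulled back element
  obtain ⟨S, hS, rfl⟩ := D.exists_vs hv
  rw [hpπ, D.comm_vs_iff π hw hS] at hpv
  obtain ⟨U, W, hU, hW, hUfix, hUW⟩ := exists_fixed_second hπ hS hpv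
    (fun h => isConj_ne_one hJ hvz ((D.vs_eq_one_iff hS).2 h))
    (fun P hP h => (D.not_isConj_duad hP).1 (by
      rwa [(D.vs_eq_iff hS (by rw [hP]; decide)).2 h] at hvz))
  have hUev : Even U.card := by rw [hU]; decide
  have hUz := D.isConj_tetrad hU
  set y' := g * D.vs U * g⁻¹ with hy'def
  have hy't : y' * t = t * y' := comm_back (D.V_comm (D.vs_mem U) ht) hgt
  have hy'q : y' * D.vs T = D.vs T * y' := by
    have := comm_conj (g := g) (((D.comm_vs_iff π hw hUev).2 hUfix).symm)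
    rwa [← hpπ, hgp] at this
  have hy'z : IsConj z y' := isConj_conj.2 hUz
  by_cases hy'V : y' ∈ D.V
  · exact D.pair_back hJ ht (D.vs_mem U) ht1 htz hUz hgt hy'V
  have hy'N := D.cent_pair hJ ht (D.vs_mem T) ht1 htz (D.isConj_tetrad hT) hy't hy'q
  have hy'2 : y' * y' = 1 := by
    rw [hy'def, show g * D.vs U * g⁻¹ * (g * D.vs U * g⁻¹) = g * (D.vs U * D.vs U) * g⁻¹ by group,
      D.V_sq (D.vs_mem U)]
    group
  obtain ⟨u', hu', σ', hyσ', hσ'⟩ := D.exists_image hy'N hy'2 hy'V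
  have hyy : y * y' = g * (D.vs S * D.vs U) * g⁻¹ := by rw [hydef, hy'def]; group
  by_cases hσσ : σ = σ'
  · subst hσσ
    refine D.pair_back hJ ht (mul_mem hv (D.vs_mem U)) ht1 htz ?_ hgt ?_
    · rw [← D.vs_mul, (D.vs_eq_iff (even_symmDiff hS hUev) (by rw [hW]; decide)).2 hUW]
      exact D.isConj_tetrad hW
    · have hy'i : y'⁻¹ = y' := inv_eq_of_mul_eq_one_right hy'2
      rw [← hyy, ← hy'i, hyσ, hyσ', show u * D.L σ * (u' * D.L σ)⁻¹ = u * u'⁻¹ by group]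
      exact mul_mem hu (inv_mem hu')
  have hcomm : σ * σ' = σ' * σ := by
    obtain ⟨a, ha, ea⟩ := D.mul_decompose σ σ' hu hu'
    obtain ⟨b, hb, eb⟩ := D.mul_decompose σ' σ hu' hu
    refine D.decompose_unique ha hb ?_
    rw [← ea, ← eb, ← hyσ, ← hyσ', hydef, hy'def]
    exact comm_conj (D.V_comm hv (D.vs_mem U))
  obtain ⟨s, R, hs, hsfix, hR, hsR⟩ := exists_fixed_disp hσ hσ' hcomm hσσ
  have hc' : y' * D.vs s = D.vs s * y' := by rw [hyσ']; exact (D.comm_vs_iff σ' hu' hs).2 hsfix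
  set c := g⁻¹ * D.vs s * g with hcdef
  have hcN : c ∈ Subgroup.normalizer (D.V : Set G) := by
    refine D.cent_pair hJ ht (D.vs_mem U) ht1 htz hUz ?_ ?_
    · have := comm_back (D.V_comm (D.vs_mem s) ht) hgt'
      rwa [inv_inv] at this
    · have := comm_conj (g := g⁻¹) hc'.symm
      rwa [inv_inv, show g⁻¹ * y' * g = D.vs U by rw [hy'def]; group] at this
  have hr : D.vs s * (y * D.vs s * y⁻¹) = D.vs R := by
    rw [hyσ, D.conj_vs σ hu hs, ← D.vs_mul, symmDiff_comm,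
      (D.vs_eq_iff (even_symmDiff (by rwa [Finset.card_smul_finset]) hs)
        (by rw [hR]; decide)).2 hsR]
  have hback : g * (c * D.vs S * c⁻¹ * (D.vs S)⁻¹) * g⁻¹ = D.vs R := by
    rw [← hr, hydef, hcdef]
    have hsi := D.V_inv (D.vs_mem s)
    calc g * (g⁻¹ * D.vs s * g * D.vs S * (g⁻¹ * D.vs s * g)⁻¹ * (D.vs S)⁻¹) * g⁻¹
        = D.vs s * (g * D.vs S * g⁻¹ * (D.vs s)⁻¹ * (g * D.vs S * g⁻¹)⁻¹) := by group
      _ = _ := by rw [hsi]
  refine D.pair_back hJ ht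
    (mul_mem ((Subgroup.mem_normalizer_iff.1 hcN _).1 hv) (inv_mem hv)) ht1 htz ?_ hgt ?_
  · rw [← isConj_conj (g := g), hback]; exact D.isConj_tetrad hR
  · rw [hback]; exact D.vs_mem R

omit [Finite G] in
theorem conj_pow_two_sq {v x : G} (hv : v * v = 1) (hx : v * x * v⁻¹ = x⁻¹) (k : ℕ) :
    x ^ k * v * (x ^ k)⁻¹ = x ^ k * x ^ k * v := by
  have h : v * (x ^ k)⁻¹ = x ^ k * v := by
    have h1 : v * x ^ k * v⁻¹ = (x ^ k)⁻¹ := by rw [← conj_pow, hx, inv_pow]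
    rw [inv_eq_of_mul_eq_one_right hv] at h1
    rw [← h1, ← mul_assoc, ← mul_assoc, hv, one_mul]
  rw [mul_assoc, h, mul_assoc]

omit [Finite G] in
theorem dihedral_odd {v x : G} (hv : v * v = 1) (hx : v * x * v⁻¹ = x⁻¹) (j : ℕ) :
    (x ^ j)⁻¹ * (v * x) * x ^ j = v * x ^ (2 * j + 1) := by
  have h1 : v * x ^ j * v⁻¹ = (x ^ j)⁻¹ := by rw [← conj_pow, hx, inv_pow]
  rw [← h1, inv_eq_of_mul_eq_one_right hv, show v * x ^ j * v * (v * x) * x ^ j =
    v * x ^ j * (v * v) * (x * x ^ j) by group, hv, mul_one, mul_assoc, ← pow_succ', ← pow_add]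
  congr 2
  omega

omit [Finite G] in
theorem dihedral_even {v x : G} (hv : v * v = 1) (hx : v * x * v⁻¹ = x⁻¹) (j : ℕ) :
    (x ^ j)⁻¹ * v * x ^ j = v * x ^ (2 * j) := by
  have h1 : v * x ^ j * v⁻¹ = (x ^ j)⁻¹ := by rw [← conj_pow, hx, inv_pow]
  rw [← h1, inv_eq_of_mul_eq_one_right hv, show v * x ^ j * v * v * x ^ j =
    v * x ^ j * (v * v) * x ^ j by group, hv, mul_one, mul_assoc, ← pow_add]
  congr 2
  omega

/-- the element met by the conjugated subgroup, from an inner and an outer vector -/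
theorem probe (hJ : Cfsg.IsOfJankoFourTypeAt z) {t v w₀ g : G} (ht : t ∈ D.V) (hv : v ∈ D.V)
    (hw : w₀ ∈ D.V) (ht1 : t ≠ 1) (htz : ¬ IsConj z t) (hvz : IsConj z v)
    (hvt : ¬ IsConj z (v * t)) (hwz : IsConj z w₀) (hwt : IsConj z (w₀ * t))
    (hgt : g * t = t * g) (hg : g ∉ Subgroup.normalizer (D.V : Set G)) :
    ∃ d ∈ D.V, d ≠ 1 ∧ g * d * g⁻¹ ∈ D.V ∧ ¬ IsConj z d ∧ ¬ IsConj z (d * t) ∧
      ¬ IsConj z (w₀ * d * t) := by
  have into := @pair_into G _ _ z A _ D hJ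
  set w := g * w₀ * g⁻¹ with hwdef
  have hv2 := D.V_sq hv
  have hw2 : w * w = 1 := by
    rw [hwdef, show g * w₀ * g⁻¹ * (g * w₀ * g⁻¹) = g * (w₀ * w₀) * g⁻¹ by group, D.V_sq hw]
    group
  have hvt' : v * t = t * v := D.V_comm hv ht
  have hwt' : w * t = t * w := comm_back (D.V_comm hw ht) hgt
  -- no element centralising `t` moves `v` to `w`
  have hnot : ∀ h : G, h * t = t * h → h * v * h⁻¹ ≠ w := by
    intro h hht e
    refine hvt ((isConj_conj (g := h)).1 ?_)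
    rw [show h * (v * t) * h⁻¹ = h * v * h⁻¹ * (h * t * h⁻¹) by group, e,
      mul_inv_eq_iff_eq_mul.2 hht, hwdef, ← mul_inv_eq_iff_eq_mul.2 hgt,
      show g * w₀ * g⁻¹ * (g * t * g⁻¹) = g * (w₀ * t) * g⁻¹ by group]
    exact isConj_conj.2 hwt
  set x := v * w with hxdef
  have hvi := inv_eq_of_mul_eq_one_right hv2
  have hwi := inv_eq_of_mul_eq_one_right hw2
  have hxi : v * x * v⁻¹ = x⁻¹ := by
    rw [hxdef, mul_inv_rev, hwi, hvi, ← mul_assoc, hv2, one_mul]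
  have hxw : v * x = w := by rw [hxdef, ← mul_assoc, hv2, one_mul]
  have hxt : Commute x t := (show Commute v t from hvt').mul_left hwt'
  have hxpt : ∀ k : ℕ, (x ^ k) * t = t * x ^ k := fun k => (hxt.pow_left k).eq
  have hxpt' : ∀ k : ℕ, (x ^ k)⁻¹ * t = t * (x ^ k)⁻¹ := fun k => ((hxt.pow_left k).inv_left).eq
  have hn : orderOf x ≠ 0 := (orderOf_pos x).ne'
  obtain ⟨a, b, hb, hab⟩ := Nat.exists_eq_pow_mul_and_not_dvd hn 2 (by norm_num)
  obtain ⟨j, hj⟩ : ∃ j, b = 2 * j + 1 := ⟨b / 2, by omega⟩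
  -- the part of two power order normalises
  have hyN : x ^ b ∈ Subgroup.normalizer (D.V : Set G) := by
    have key : ∀ i, i ≤ a → x ^ (b * 2 ^ (a - i)) ∈ Subgroup.normalizer (D.V : Set G) := by
      intro i
      induction i with
      | zero =>
        intro _
        rw [Nat.sub_zero, mul_comm, ← hab, pow_orderOf_eq_one]
        exact one_mem _
      | succ i ih =>
        intro hi
        refine into ht hv ht1 htz hvz (hxpt _) ?_
        rw [conj_pow_two_sq hv2 hxi, ← pow_add]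
        refine mul_mem ?_ (Subgroup.le_normalizer hv)
        have e : b * 2 ^ (a - (i + 1)) + b * 2 ^ (a - (i + 1)) = b * 2 ^ (a - i) := by
          rw [show a - i = a - (i + 1) + 1 by omega, pow_succ]; ring
        rw [e]
        exact ih (by omega)
    simpa using key a le_rfl
  set y := x ^ b with hy
  -- the conjugate of `w` in the subgroup
  have hw' : (x ^ j)⁻¹ * g * w₀ * ((x ^ j)⁻¹ * g)⁻¹ = v * y := by
    rw [show (x ^ j)⁻¹ * g * w₀ * ((x ^ j)⁻¹ * g)⁻¹ = (x ^ j)⁻¹ * (g * w₀ * g⁻¹) * x ^ j by group,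
      ← hwdef, ← hxw, dihedral_odd hv2 hxi, ← hj]
  have hjt : (x ^ j)⁻¹ * g * t = t * ((x ^ j)⁻¹ * g) :=
    ((show Commute (x ^ j)⁻¹ t from hxpt' j).mul_left hgt).eq
  have hh := into ht hw ht1 htz hwz hjt (hw' ▸ mul_mem (Subgroup.le_normalizer hv) hyN)
  have hvyV : v * y ∈ D.V := hw' ▸ (Subgroup.mem_normalizer_iff.1 hh w₀).1 hw
  have hyV : y ∈ D.V := by
    have := mul_mem hv hvyV
    rwa [← mul_assoc, hv2, one_mul] at this
  have hy1 : y ≠ 1 := by
    intro e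
    rw [e, mul_one] at hw'
    refine hnot (x ^ j) (hxpt j) ?_
    rw [← hw', hwdef]
    group
  -- the conjugate of `v` in the conjugated subgroup
  have hwy : w * y = (x ^ (j + 1))⁻¹ * v * x ^ (j + 1) := by
    rw [dihedral_even hv2 hxi, ← hxw, hy, mul_assoc, ← pow_succ', hj]
    congr 2
  have hyw : y * w = w * y := by
    have e : w * x * w⁻¹ = x⁻¹ := by
      refine eq_inv_of_mul_eq_one_left ?_
      rw [hwi, hxdef, show w * (v * w) * w * (v * w) = w * v * (w * w) * (v * w) by group, hw2,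
        mul_one, show w * v * (v * w) = w * (v * v) * w by group, hv2, mul_one, hw2]
    have e2 : w * y * w⁻¹ = y := by
      rw [hy, ← conj_pow, e, inv_pow, ← hy]
      exact D.V_inv hyV
    exact (mul_inv_eq_iff_eq_mul.1 e2).symm
  set k := g⁻¹ * (w * y) * g with hkdef
  have hgt' : g⁻¹ * t = t * g⁻¹ := ((show Commute g t from hgt).inv_left).eq
  have hkt : k * t = t * k := by
    have h1 : w * y * t = t * (w * y) :=
      ((show Commute w t from hwt').mul_left (show Commute y t from D.V_comm hyV ht)).eq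
    have := comm_back h1 hgt'
    rwa [inv_inv] at this
  have hkw : k * w₀ = w₀ * k := by
    have h1 : w * y * w = w * (w * y) := by rw [mul_assoc, hyw]
    have := comm_conj (g := g⁻¹) h1
    rwa [inv_inv, show g⁻¹ * w * g = w₀ by rw [hwdef]; group] at this
  have hk' : g⁻¹ * (x ^ (j + 1))⁻¹ * v * (g⁻¹ * (x ^ (j + 1))⁻¹)⁻¹ = k := by
    rw [hkdef, hwy]; group
  have hk't : g⁻¹ * (x ^ (j + 1))⁻¹ * t = t * (g⁻¹ * (x ^ (j + 1))⁻¹) :=
    ((show Commute g⁻¹ t from hgt').mul_left (hxpt' (j + 1))).eq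
  have hh' := into ht hv ht1 htz hvz hk't
    (hk' ▸ D.cent_pair hJ ht hw ht1 htz hwz hkt hkw)
  have hkV : k ∈ D.V := hk' ▸ (Subgroup.mem_normalizer_iff.1 hh' v).1 hv
  have hgd : g * (w₀ * k) * g⁻¹ = y := by
    calc g * (w₀ * k) * g⁻¹ = w * w * y := by rw [hkdef, hwdef]; group
      _ = y := by rw [hw2, one_mul]
  refine ⟨w₀ * k, mul_mem hw hkV, ?_, hgd ▸ hyV, ?_, ?_, ?_⟩
  · intro e
    rw [e] at hgd
    exact hy1 (by rw [← hgd]; group)
  · exact fun h => hg (D.pair_back hJ ht (mul_mem hw hkV) ht1 htz h hgt (hgd ▸ hyV))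
  · refine fun h => hg (D.pair_back hJ ht (mul_mem (mul_mem hw hkV) ht) ht1 htz h hgt ?_)
    rw [show g * (w₀ * k * t) * g⁻¹ = g * (w₀ * k) * g⁻¹ * (g * t * g⁻¹) by group, hgd,
      mul_inv_eq_iff_eq_mul.2 hgt]
    exact mul_mem hyV ht
  · rw [show w₀ * (w₀ * k) = w₀ * w₀ * k by group, D.V_sq hw, one_mul, ← hk']
    intro h
    refine hvt ((isConj_conj (g := g⁻¹ * (x ^ (j + 1))⁻¹)).1 ?_)
    generalize g⁻¹ * (x ^ (j + 1))⁻¹ = e at h hk't ⊢
    rwa [show e * (v * t) * e⁻¹ = e * v * e⁻¹ * (e * t * e⁻¹) by group,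
      mul_inv_eq_iff_eq_mul.2 hk't]

/-- the standard duad vector -/
theorem cent_std (hJ : Cfsg.IsOfJankoFourTypeAt z) {g : G} (hgt : g * D.vm 3 = D.vm 3 * g) :
    g ∈ Subgroup.normalizer (D.V : Set G) := by
  classical
  by_contra hg
  obtain ⟨htz, ht1⟩ : ¬ IsConj z (D.vm 3) ∧ D.vm 3 ≠ 1 :=
    D.not_isConj_duad (s := toSet 3) (by decide +kernel)
  have ht := D.vm_mem 3
  have hv := D.vm_mem 15
  have hvt : ¬ IsConj z (D.vm 15 * D.vm 3) := by
    rw [← D.vm_xor]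
    exact (D.not_isConj_duad (s := toSet (15 ^^^ 3)) (by decide +kernel)).1
  have h01 : pt 0 ≠ pt 1 := by decide +kernel
  have hP0 : toSet 3 = ({pt 0, pt 1} : Finset GolayPt) := by decide +kernel
  have ev4 : ∀ {m}, pop m = 4 → IsConj z (D.vm m) := fun h =>
    D.isConj_tetrad (by rw [card_toSet, h])
  -- the duad met has exactly one point among the first two
  have hprobe : ∀ w₀ ∈ D.V, IsConj z w₀ → IsConj z (w₀ * D.vm 3) →
      ∃ a a' c : GolayPt, (a = pt 0 ∧ a' = pt 1 ∨ a = pt 1 ∧ a' = pt 0) ∧ c ≠ pt 0 ∧ c ≠ pt 1 ∧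
        g * D.vs {a, c} * g⁻¹ ∈ D.V ∧ ¬ IsConj z (w₀ * D.vs {a', c}) := by
    intro w₀ hw hwz hwt
    obtain ⟨d, hd, hd1, hgd, hdz, hdt, hwd⟩ :=
      D.probe hJ (g := g)
        ht hv hw ht1 htz D.isConj_z₀ hvt hwz hwt hgt hg
    obtain ⟨P, hP, rfl⟩ := D.exists_duad hd hd1 hdz
    rw [mul_assoc, ← vs_toSet, ← D.vs_mul, hP0] at hwd
    rw [← vs_toSet, ← D.vs_mul, hP0] at hdt
    have hcard := card_symmDiff_add P {pt 0, pt 1}
    rw [hP, Finset.card_pair h01] at hcard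
    by_cases h0 : pt 0 ∈ P <;> by_cases h1 : pt 1 ∈ P
    · have e : ({pt 0, pt 1} : Finset GolayPt) = P :=
        Finset.eq_of_subset_of_card_le (by simp [Finset.insert_subset_iff, h0, h1])
          (by rw [hP, Finset.card_pair h01])
      rw [e, symmDiff_self] at hwd
      refine absurd ?_ hwd
      rw [show D.vs (⊥ : Finset GolayPt) = 1 from D.ι_zero, mul_one]
      exact hwz
    · obtain ⟨c, hc⟩ := Finset.card_eq_one.1 (show (P.erase (pt 0)).card = 1 by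
        rw [Finset.card_erase_of_mem h0, hP])
      have hcP : c ≠ pt 0 ∧ c ∈ P := Finset.mem_erase.1 (hc ▸ Finset.mem_singleton_self c)
      have e : P = {pt 0, c} := by rw [← Finset.insert_erase h0, hc]
      have hc1 : c ≠ pt 1 := fun h => h1 (h ▸ hcP.2)
      refine ⟨pt 0, pt 1, c, Or.inl ⟨rfl, rfl⟩, hcP.1, hc1, e ▸ hgd, ?_⟩
      have e2 : P ∆ {pt 0, pt 1} = {pt 1, c} := by
        rw [e]; ext p; simp only [Finset.mem_symmDiff, Finset.mem_insert, Finset.mem_singleton]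
        grind
      rwa [e2] at hwd
    · obtain ⟨c, hc⟩ := Finset.card_eq_one.1 (show (P.erase (pt 1)).card = 1 by
        rw [Finset.card_erase_of_mem h1, hP])
      have hcP : c ≠ pt 1 ∧ c ∈ P := Finset.mem_erase.1 (hc ▸ Finset.mem_singleton_self c)
      have e : P = {pt 1, c} := by rw [← Finset.insert_erase h1, hc]
      have hc0 : c ≠ pt 0 := fun h => h0 (h ▸ hcP.2)
      refine ⟨pt 1, pt 0, c, Or.inr ⟨rfl, rfl⟩, hc0, hcP.1, e ▸ hgd, ?_⟩
      have e2 : P ∆ {pt 0, pt 1} = {pt 0, c} := by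
        rw [e]; ext p; simp only [Finset.mem_symmDiff, Finset.mem_insert, Finset.mem_singleton]
        grind
      rwa [e2] at hwd
    · have hi : P ∩ {pt 0, pt 1} = ∅ := by
        ext p; simp only [Finset.mem_inter, Finset.mem_insert, Finset.mem_singleton,
          Finset.notMem_empty, iff_false]
        rintro ⟨hp, rfl | rfl⟩ <;> contradiction
      rw [hi, Finset.card_empty] at hcard
      exact absurd (D.isConj_tetrad (by omega)) hdt
  -- two such duads have the same further point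
  have huniq : ∀ {a a' c b b' c' : GolayPt},
      (a = pt 0 ∧ a' = pt 1 ∨ a = pt 1 ∧ a' = pt 0) →
      (b = pt 0 ∧ b' = pt 1 ∨ b = pt 1 ∧ b' = pt 0) → c ≠ pt 0 → c ≠ pt 1 → c' ≠ pt 0 →
      c' ≠ pt 1 → g * D.vs {a, c} * g⁻¹ ∈ D.V → g * D.vs {b, c'} * g⁻¹ ∈ D.V → c = c' := by
    intro a a' c b b' c' hab hbb hc0 hc1 hc0' hc1' hga hgb
    by_contra hcc
    have h2 : g * D.vs ({a, c} ∆ {b, c'}) * g⁻¹ ∈ D.V := by
      rw [D.vs_mul, show g * (D.vs {a, c} * D.vs {b, c'}) * g⁻¹ =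
        g * D.vs {a, c} * g⁻¹ * (g * D.vs {b, c'} * g⁻¹) by group]
      exact mul_mem hga hgb
    have h3 : g * D.vs ({a, c} ∆ {b, c'} ∆ {pt 0, pt 1}) * g⁻¹ ∈ D.V := by
      rw [D.vs_mul, show g * (D.vs ({a, c} ∆ {b, c'}) * D.vs {pt 0, pt 1}) * g⁻¹ =
        g * D.vs ({a, c} ∆ {b, c'}) * g⁻¹ * (g * D.vs {pt 0, pt 1} * g⁻¹) by group, ← hP0,
        vs_toSet, mul_inv_eq_iff_eq_mul.2 hgt]
      exact mul_mem h2 ht
    have hh : (({a, c} ∆ {b, c'} : Finset GolayPt)).card = 4 ∨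
        (({a, c} ∆ {b, c'} ∆ {pt 0, pt 1} : Finset GolayPt)).card = 4 := by
      rcases hab with ⟨rfl, rfl⟩ | ⟨rfl, rfl⟩ <;> rcases hbb with ⟨rfl, rfl⟩ | ⟨rfl, rfl⟩
      · right
        rw [show ({pt 0, c} ∆ {pt 0, c'} ∆ {pt 0, pt 1} : Finset GolayPt) = {c, c', pt 0, pt 1} by
          ext p; simp only [Finset.mem_symmDiff, Finset.mem_insert, Finset.mem_singleton]; grind]
        simp [Finset.card_insert_of_notMem, hcc, hc0, hc1, hc0', hc1', h01]
      · left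
        rw [show ({pt 0, c} ∆ {pt 1, c'} : Finset GolayPt) = {c, c', pt 0, pt 1} by
          ext p; simp only [Finset.mem_symmDiff, Finset.mem_insert, Finset.mem_singleton]; grind]
        simp [Finset.card_insert_of_notMem, hcc, hc0, hc1, hc0', hc1', h01]
      · left
        rw [show ({pt 1, c} ∆ {pt 0, c'} : Finset GolayPt) = {c, c', pt 0, pt 1} by
          ext p; simp only [Finset.mem_symmDiff, Finset.mem_insert, Finset.mem_singleton]; grind]
        simp [Finset.card_insert_of_notMem, hcc, hc0, hc1, hc0', hc1', h01]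
      · right
        rw [show ({pt 1, c} ∆ {pt 1, c'} ∆ {pt 0, pt 1} : Finset GolayPt) = {c, c', pt 0, pt 1} by
          ext p; simp only [Finset.mem_symmDiff, Finset.mem_insert, Finset.mem_singleton]; grind]
        simp [Finset.card_insert_of_notMem, hcc, hc0, hc1, hc0', hc1', h01]
    rcases hh with hh | hh
    · exact hg (D.pair_back hJ ht (D.vs_mem _) ht1 htz (D.isConj_tetrad hh) hgt h2)
    · exact hg (D.pair_back hJ ht (D.vs_mem _) ht1 htz (D.isConj_tetrad hh) hgt h3)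
  -- a first outer vector
  obtain ⟨T, U₀, -, -, hT, hU₀, -, -, hTe, hU₀e, -, -, hi₀, -, -⟩ :=
    exists_outer (c := pt 2) (by decide +kernel) (by decide +kernel)
  have ev3 : Ev 3 := ev_of_check (by norm_num) (by decide +kernel)
  obtain ⟨a, a', c, hab, hc0, hc1, hgc, -⟩ := hprobe (D.vm T) (D.vm_mem T) (ev4 hT)
    (by rw [← D.vm_xor, D.vm_eq (hTe.xor ev3) hU₀e hi₀]; exact ev4 hU₀)
  -- the outer vector for this point
  obtain ⟨S, R₀, R₁, R₂, hS, hR₀, hR₁, hR₂, hSe, hR₀e, hR₁e, hR₂e, hj₀, hj₁, hj₂⟩ :=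
    exists_outer hc0 hc1
  obtain ⟨b, b', c', hbb, hc0', hc1', hgc', hnot⟩ := hprobe (D.vm S) (D.vm_mem S) (ev4 hS)
    (by rw [← D.vm_xor, D.vm_eq (hSe.xor ev3) hR₀e hj₀]; exact ev4 hR₀)
  obtain rfl := huniq hab hbb hc0 hc1 hc0' hc1' hgc hgc'
  have hev : ∀ p, p ≠ c → Ev (mask {p, c}) := fun p hp => ⟨mask_lt _, by
    rw [toSet_mask, Finset.card_pair hp]; decide⟩
  rcases hbb with ⟨-, rfl⟩ | ⟨-, rfl⟩
  · rw [← toSet_mask {pt 1, c}, vs_toSet, ← D.vm_xor,
      D.vm_eq (hSe.xor (hev _ hc1.symm)) hR₂e hj₂] at hnot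
    exact hnot (ev4 hR₂)
  · rw [← toSet_mask {pt 0, c}, vs_toSet, ← D.vm_xor,
      D.vm_eq (hSe.xor (hev _ hc0.symm)) hR₁e hj₁] at hnot
    exact hnot (ev4 hR₁)

/-- the centraliser of a duad vector normalises the subgroup -/
theorem cent_le (hJ : Cfsg.IsOfJankoFourTypeAt z) :
    ∀ t ∈ D.V, t ≠ 1 → ¬ IsConj z t →
      Subgroup.centralizer ({t} : Set G) ≤ Subgroup.normalizer (D.V : Set G) := by
  classical
  intro t ht ht1 htz x hx
  rw [Subgroup.mem_centralizer_singleton_iff] at hx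
  obtain ⟨P, hP, rfl⟩ := D.exists_duad ht ht1 htz
  obtain ⟨a, b, hab, rfl⟩ := Finset.card_eq_two.1 hP
  obtain ⟨σ, hσ⟩ := exists_move (k := 2) (by norm_num)
    (f := ![a, b]) (by intro i j; fin_cases i <;> fin_cases j <;> simp [hab, hab.symm])
    (g := ![pt 0, pt 1]) (by decide +kernel)
  have e0 : (σ : Equiv.Perm GolayPt) a = pt 0 := hσ 0
  have e1 : (σ : Equiv.Perm GolayPt) b = pt 1 := hσ 1
  have k1 : (σ : Equiv.Perm GolayPt) • ({a, b} : Finset GolayPt) = toSet 3 := by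
    rw [Finset.smul_finset_insert, Finset.smul_finset_singleton, Equiv.Perm.smul_def,
      Equiv.Perm.smul_def, e0, e1]
    decide +kernel
  refine D.mem_N_of_conj (σ := σ)
    (D.cent_std hJ ?_)
  have := comm_conj (g := D.L σ) hx
  rwa [D.L_vs σ (by rw [hP]; decide), k1, vs_toSet] at this

include D in
/-- the structure of the centraliser of an involution of the second kind -/
theorem second_centralizer_aut (hJ : Cfsg.IsOfJankoFourTypeAt z)
    {Y : Type*} [Group Y]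
    (hY : Nonempty (↥(Cfsg.M24 ⊓ MulAction.stabilizer (Equiv.Perm Cfsg.GolayPt)
      ({none, some 0} : Set Cfsg.GolayPt)) ≃* Y))
    (t : G) (ht : orderOf t = 2) (hnc : ¬ IsConj z t) :
    ∃ V K : Subgroup G, V ≤ Subgroup.centralizer ({t} : Set G) ∧
      K ≤ Subgroup.centralizer ({t} : Set G) ∧
      Subgroup.centralizer ({t} : Set G) ≤ Subgroup.normalizer (V : Set G) ∧
      Cfsg.IsElementaryAbelian 2 V ∧ Nat.card ↥V = 2 ^ 11 ∧
      K ⊓ V = ⊥ ∧ K ⊔ V = Subgroup.centralizer ({t} : Set G) ∧ Nonempty (↥K ≃* Y) :=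
  D.second_centralizer hJ (D.cent_le hJ) hY t ht hnc

end Eleven

end CfsgLib.Spor.JankoFourCentral
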