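import Cfsg.Agent.Lib.Spor.JankoFourCentral.Fusion

/-!
The centraliser of an involution of the second kind in a group of Janko-four type: a split
extension of the elementary abelian group of order `2^11` by a duad stabiliser of `M24`.
-/

set_option autoImplicit false

namespace CfsgLib.Spor.JankoFourCentral

open Cfsg CfsgLib.Spor
open scoped Pointwise

namespace Eleven

variable {G : Type*} [Group G] [Finite G] {z : G} {A : Type*} [AddCommGroup A] (D : Eleven z A)

/-- the core attached to the first tetrad is not abelian -/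
theorem E₀_nonabelian (hJ : Cfsg.IsOfJankoFourTypeAt z) :
    ∃ a ∈ D.E₀, ∃ b ∈ D.E₀, a * b ≠ b * a := by
  obtain ⟨P, -, ⟨⟨-, -, hcom⟩, hZ⟩, -⟩ := hJ
  by_contra hno
  push Not at hno
  have hcomm : ∀ a b : ↥(twoCoreOfCentralizer z), a * b = b * a := by
    intro a b
    have h := hno (D.g₀ * a * D.g₀⁻¹) (D.mem_E₀.2 (by simp [mul_assoc]))
      (D.g₀ * b * D.g₀⁻¹) (D.mem_E₀.2 (by simp [mul_assoc]))
    apply Subtype.ext
    have h2 : D.g₀ * ((a : G) * b) * D.g₀⁻¹ = D.g₀ * ((b : G) * a) * D.g₀⁻¹ := by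
      calc D.g₀ * ((a : G) * b) * D.g₀⁻¹ = D.g₀ * a * D.g₀⁻¹ * (D.g₀ * b * D.g₀⁻¹) := by group
        _ = D.g₀ * b * D.g₀⁻¹ * (D.g₀ * a * D.g₀⁻¹) := h
        _ = _ := by group
    exact mul_left_cancel (mul_right_cancel h2)
  have htop : Subgroup.center ↥(twoCoreOfCentralizer z) = ⊤ :=
    eq_top_iff.2 fun a _ => Subgroup.mem_center_iff.2 fun b => hcomm b a
  have hbot : commutator ↥(twoCoreOfCentralizer z) = ⊥ := by
    rw [commutator_def, Subgroup.commutator_eq_bot_iff_le_centralizer]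
    intro a _
    exact Subgroup.mem_centralizer_iff.2 fun b _ => hcomm b a
  rw [hcom] at hbot
  rw [hbot, Subgroup.card_bot] at hZ
  exact absurd hZ (by norm_num)

/-- an involution not conjugate to `z` has centraliser `2^11` split by a duad stabiliser -/
theorem centralizer_structure (hJ : Cfsg.IsOfJankoFourTypeAt z)
    (hfuse : ∀ x ∈ twoCoreOfCentralizer z, x * x = 1 → ∃ g : G, g * x * g⁻¹ ∈ D.V)
    (hcent : ∀ t ∈ D.V, t ≠ 1 → ¬ IsConj z t →
      Subgroup.centralizer ({t} : Set G) ≤ Subgroup.normalizer (D.V : Set G))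
    {Y : Type*} [Group Y]
    (hY : Nonempty (↥(Cfsg.M24 ⊓ MulAction.stabilizer (Equiv.Perm Cfsg.GolayPt)
      ({none, some 0} : Set Cfsg.GolayPt)) ≃* Y))
    (t : G) (ht : orderOf t = 2) (hnc : ¬ IsConj z t) :
    ∃ V K : Subgroup G, V ≤ Subgroup.centralizer ({t} : Set G) ∧
      K ≤ Subgroup.centralizer ({t} : Set G) ∧
      Subgroup.centralizer ({t} : Set G) ≤ Subgroup.normalizer (V : Set G) ∧
      Cfsg.IsElementaryAbelian 2 V ∧ Nat.card ↥V = 2 ^ 11 ∧
      K ⊓ V = ⊥ ∧ K ⊔ V = Subgroup.centralizer ({t} : Set G) ∧ Nonempty (↥K ≃* Y) := by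
  have hz : orderOf z = 2 := hJ.choose_spec.1
  have ht2 : t * t = 1 := by rw [← pow_two, ← ht, pow_orderOf_eq_one]
  obtain ⟨g, hg⟩ := D.exists_conj_mem hz (D.E₀_nonabelian hJ) hfuse ht2
  set s := g * t * g⁻¹ with hs
  have hs1 : s ≠ 1 := by
    intro h
    rw [hs, conj_eq_one_iff] at h
    rw [h, orderOf_one] at ht
    exact absurd ht (by norm_num)
  have hsz : ¬ IsConj z s := fun h => hnc (h.trans (isConj_iff.2 ⟨g, rfl⟩).symm)
  -- the centraliser of the representative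
  obtain ⟨a, ha⟩ := (D.mem_V s).1 hg
  have ha0 : a ≠ 0 := fun h => hs1 (by rw [← ha, h, D.ι_zero])
  have hduad : a ∈ D.C.duads := (D.duad a ha0).2 (by rw [ha]; exact hsz)
  let W : Subgroup D.K := (Subgroup.centralizer ({s} : Set G)).subgroupOf D.K
  obtain ⟨eW⟩ := D.acts.stab_iso hduad W (fun k => by
    rw [Subgroup.mem_subgroupOf, Subgroup.mem_centralizer_singleton_iff]
    constructor
    · intro h
      refine D.ι_inj ?_
      rw [D.ι_act, ha, mul_inv_eq_iff_eq_mul]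
      exact h
    · intro h
      have := congrArg D.ι h
      rwa [D.ι_act, ha, mul_inv_eq_iff_eq_mul] at this)
  obtain ⟨eY⟩ := hY
  -- transport back to `t`
  let f := (MulAut.conj g⁻¹)
  refine ⟨D.V.map f.toMonoidHom, (D.K ⊓ Subgroup.centralizer ({s} : Set G)).map f.toMonoidHom,
    ?_, ?_, ?_, conj_elementary _ D.elem,
    by rw [Subgroup.card_map_of_injective f.injective, D.card],
    ?_, ?_, ?_⟩
  · rintro x hx
    obtain ⟨v, hv, rfl⟩ := Subgroup.mem_map.1 hx
    obtain ⟨b, rfl⟩ := (D.mem_V v).1 hv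
    rw [Subgroup.mem_centralizer_singleton_iff]
    show g⁻¹ * D.ι b * g⁻¹⁻¹ * t = t * (g⁻¹ * D.ι b * g⁻¹⁻¹)
    have h := D.ι_comm b a
    rw [ha, hs] at h
    calc g⁻¹ * D.ι b * g⁻¹⁻¹ * t = g⁻¹ * (D.ι b * (g * t * g⁻¹)) * g := by group
      _ = g⁻¹ * ((g * t * g⁻¹) * D.ι b) * g := by rw [h]
      _ = _ := by group
  · rintro x hx
    obtain ⟨k, hk, rfl⟩ := Subgroup.mem_map.1 hx
    have h := Subgroup.mem_centralizer_singleton_iff.1 hk.2
    rw [hs] at h
    rw [Subgroup.mem_centralizer_singleton_iff]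
    show g⁻¹ * k * g⁻¹⁻¹ * t = t * (g⁻¹ * k * g⁻¹⁻¹)
    calc g⁻¹ * k * g⁻¹⁻¹ * t = g⁻¹ * (k * (g * t * g⁻¹)) * g := by group
      _ = g⁻¹ * ((g * t * g⁻¹) * k) * g := by rw [h]
      _ = _ := by group
  · intro x hx
    rw [Subgroup.mem_centralizer_singleton_iff] at hx
    have hy : g * x * g⁻¹ ∈ Subgroup.normalizer (D.V : Set G) := by
      refine hcent s hg hs1 hsz (Subgroup.mem_centralizer_singleton_iff.2 ?_)
      rw [hs]
      calc g * x * g⁻¹ * (g * t * g⁻¹) = g * (x * t) * g⁻¹ := by group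
        _ = g * (t * x) * g⁻¹ := by rw [hx]
        _ = _ := by group
    refine Subgroup.mem_normalizer_iff.2 fun y => ?_
    rw [Subgroup.mem_map_equiv, Subgroup.mem_map_equiv, MulAut.conj_symm_apply,
      MulAut.conj_symm_apply, inv_inv, Subgroup.mem_normalizer_iff.1 hy]
    rw [show g * x * g⁻¹ * (g * y * g⁻¹) * (g * x * g⁻¹)⁻¹ = g * (x * y * x⁻¹) * g⁻¹ by group]
  · rw [← Subgroup.map_inf _ _ _ f.injective, show D.K ⊓ Subgroup.centralizer ({s} : Set G) ⊓ D.V = ⊥
      from le_bot_iff.1 (D.inf ▸ inf_le_inf_right _ inf_le_left), Subgroup.map_bot]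
  · rw [← Subgroup.map_sup]
    ext x
    rw [Subgroup.mem_map_equiv, MulAut.conj_symm_apply, inv_inv,
      Subgroup.mem_centralizer_singleton_iff]
    have hiff : (x * t = t * x) ↔ (g * x * g⁻¹) * s = s * (g * x * g⁻¹) := by
      rw [hs, show g * x * g⁻¹ * (g * t * g⁻¹) = g * (x * t) * g⁻¹ by group,
        show g * t * g⁻¹ * (g * x * g⁻¹) = g * (t * x) * g⁻¹ by group]
      exact ⟨fun h => by rw [h], fun h => mul_left_cancel (mul_right_cancel h)⟩
    rw [hiff, ← Subgroup.mem_centralizer_singleton_iff]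
    have hVs : D.V ≤ Subgroup.centralizer ({s} : Set G) := by
      intro v hv
      obtain ⟨b, rfl⟩ := (D.mem_V v).1 hv
      rw [Subgroup.mem_centralizer_singleton_iff, ← ha]
      exact D.ι_comm b a
    constructor
    · intro h
      exact (sup_le inf_le_right hVs) h
    · intro h
      obtain ⟨v, hv, σ, e⟩ := D.decompose (hcent s hg hs1 hsz h)
      rw [e] at h ⊢
      refine mul_mem (Subgroup.mem_sup_right hv) (Subgroup.mem_sup_left ⟨D.L_mem_K σ, ?_⟩)
      have := mul_mem (inv_mem (hVs hv)) h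
      rwa [inv_mul_cancel_left] at this
  · have e1 := (Subgroup.equivMapOfInjective (D.K ⊓ Subgroup.centralizer ({s} : Set G))
      f.toMonoidHom f.injective).symm
    have e2 : ↥W ≃* ↥(D.K ⊓ Subgroup.centralizer ({s} : Set G)) :=
      { toFun := fun k => ⟨k.1.1, k.1.2, k.2⟩
        invFun := fun k => ⟨⟨k.1, k.2.1⟩, k.2.2⟩
        left_inv := fun _ => rfl
        right_inv := fun _ => rfl
        map_mul' := fun _ _ => rfl }
    exact ⟨e1.trans (e2.symm.trans (eW.trans eY))⟩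

end Eleven

end CfsgLib.Spor.JankoFourCentral
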