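import Cfsg.Agent.Lib.Spor.LargeJ4.Setup
import Cfsg.Agent.Lib.Spor.JankoFourCentral.Central

/-!
The involutions of the 2-core of the centraliser fall into two classes of the centraliser beside
`z`, and both meet every elementary abelian subgroup of order `2^11` with the coordinates above.
-/

set_option autoImplicit false
set_option maxRecDepth 100000

namespace CfsgLib.Spor.JankoFourCentral

open Cfsg CfsgLib.Spor CfsgLib.Base
open scoped Matrix Pointwise

section Model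

open CfsgLib.Spor.U62 CfsgLib.Spor.LargeFi

variable {H : Type*} [Group H] [Finite H] {Q : Subgroup H} [Q.Normal] {z : H}
  (M : LargeFi.J4.Model Q z)

omit [Finite H] in
theorem conj_of_vec_eq {a b : Q} (h : M.vec a = M.vec b) (h0 : M.vec a ≠ 0) :
    ∃ p : H, p * (a : H) * p⁻¹ = b := by
  have h1 : M.vec (a * b) = 0 := by
    rw [M.vec_mul, h, ← two_smul K4, show (2 : K4) = 0 by decide +kernel, zero_smul]
  have hz2 : z * z = 1 := M.xc.inv
  have h2 : M.vec (a * a) = 0 := by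
    rw [M.vec_mul, ← two_smul K4, show (2 : K4) = 0 by decide +kernel, zero_smul]
  -- `b` is `a` or `z a`
  have hb : (b : H) = a ∨ (b : H) = z * a := by
    rcases (M.vec_eq_zero _).1 h1 with e | e <;> rcases (M.vec_eq_zero _).1 h2 with e' | e' <;>
      simp only [Subgroup.coe_mul] at e e'
    · exact Or.inl (mul_left_cancel (e.trans e'.symm))
    · right
      refine mul_left_cancel (a := (a : H)) ?_
      rw [e, ← mul_assoc, M.zc, mul_assoc, e', hz2]
    · right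
      refine mul_left_cancel (a := (a : H)) ?_
      rw [e, ← mul_assoc, M.zc, mul_assoc, e', mul_one]
    · exact Or.inl (mul_left_cancel (e.trans e'.symm))
  rcases hb with e | e
  · exact ⟨1, by simp [e]⟩
  · by_contra hno
    push Not at hno
    refine h0 ((M.vec_eq_zero a).2 (M.xc.center a a.2 fun p hp => ?_))
    have hp' := hno p
    rw [e] at hp'
    exact mul_inv_eq_iff_eq_mul.1 ((M.xc.commEl p hp a a.2).resolve_right hp')

omit [Finite H] in
theorem conj_of_orbit {a b : Q} {g g' : U6} {w : V6} (hg : g ∈ LargeFi.J4.L0)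
    (hg' : g' ∈ LargeFi.J4.L0) (ha : mat g *ᵥ w = M.vec a) (hb : mat g' *ᵥ w = M.vec b)
    (h0 : M.vec b ≠ 0) : ∃ p : H, p * (a : H) * p⁻¹ = b := by
  obtain ⟨h, -, hh⟩ := M.L0_lift g hg
  obtain ⟨h', -, hh'⟩ := M.L0_lift g' hg'
  obtain ⟨s, hs⟩ := M.vec_surj w
  have e1 : M.vec (MulAut.conjNormal h s) = M.vec a := by rw [M.vec_conj, hh, hs, ha]
  have e2 : M.vec (MulAut.conjNormal h' s) = M.vec b := by rw [M.vec_conj, hh', hs, hb]
  obtain ⟨p, hp⟩ := conj_of_vec_eq M e2 (e2 ▸ h0)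
  have ha0 : M.vec a ≠ 0 := by
    intro h00
    have := M.vec_conj h⁻¹ (MulAut.conjNormal h s)
    rw [e1, h00, map_zero, ← MulAut.mul_apply, ← map_mul, inv_mul_cancel, map_one,
      MulAut.one_apply, hs] at this
    rw [← hb, this, Matrix.mulVec_zero] at h0
    exact h0 rfl
  obtain ⟨q, hq⟩ := conj_of_vec_eq M e1 (e1 ▸ ha0)
  refine ⟨p * h' * h⁻¹ * q⁻¹, ?_⟩
  rw [MulAut.conjNormal_apply] at hp hq
  rw [← hp, ← hq]
  group

include M in
omit [Finite H] in
/-- two involutions of the core conjugate to a third one unless they lie in different orbits -/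
theorem two_classes {a b : Q} (ha : (a : H) * a = 1) (ha1 : (a : H) ≠ 1) (haz : (a : H) ≠ z)
    (hb : (b : H) * b = 1) (hb1 : (b : H) ≠ 1) (hbz : (b : H) ≠ z)
    {c : Q} (hc : (c : H) * c = 1) (hc1 : (c : H) ≠ 1) (hcz : (c : H) ≠ z)
    (hne : ∀ p : H, p * (a : H) * p⁻¹ ≠ b) :
    (∃ p : H, p * (c : H) * p⁻¹ = a) ∨ ∃ p : H, p * (c : H) * p⁻¹ = b := by
  have key : ∀ x : Q, (x : H) * x = 1 → (x : H) ≠ 1 → (x : H) ≠ z →
      nf (M.vec x) = 0 ∧ M.vec x ≠ 0 :=
    fun x hx h1 h2 => ⟨(M.vec_sq x).1 hx, fun h => ((M.vec_eq_zero x).1 h).elim h1 h2⟩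
  obtain ⟨ha2, ha0⟩ := key a ha ha1 haz
  obtain ⟨hb2, hb0⟩ := key b hb hb1 hbz
  obtain ⟨hc2, hc0⟩ := key c hc hc1 hcz
  have small : ∀ {x y : Q}, LargeFi.J4.Small (M.vec x) → LargeFi.J4.Small (M.vec y) →
      M.vec y ≠ 0 → ∃ p : H, p * (x : H) * p⁻¹ = y := by
    intro x y sx sy h0
    obtain ⟨g, hg, eg⟩ := LargeFi.J4.small_orbit sx
    obtain ⟨g', hg', eg'⟩ := LargeFi.J4.small_orbit sy
    exact conj_of_orbit M hg hg' eg eg' h0
  have big : ∀ {x y : Q}, LargeFi.J4.Big (M.vec x) → LargeFi.J4.Big (M.vec y) →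
      M.vec y ≠ 0 → ∃ p : H, p * (x : H) * p⁻¹ = y := by
    intro x y sx sy h0
    obtain ⟨g, hg, eg⟩ := LargeFi.J4.big_orbit sx
    obtain ⟨g', hg', eg'⟩ := LargeFi.J4.big_orbit sy
    exact conj_of_orbit M hg hg' eg eg' h0
  rcases LargeFi.J4.isotropic_cases ha2 ha0 with sa | sa <;>
    rcases LargeFi.J4.isotropic_cases hb2 hb0 with sb | sb
  · obtain ⟨p, hp⟩ := small sa sb hb0
    exact absurd hp (hne p)
  · rcases LargeFi.J4.isotropic_cases hc2 hc0 with sc | sc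
    · exact Or.inl (small sc sa ha0)
    · exact Or.inr (big sc sb hb0)
  · rcases LargeFi.J4.isotropic_cases hc2 hc0 with sc | sc
    · exact Or.inr (small sc sb hb0)
    · exact Or.inl (big sc sa ha0)
  · obtain ⟨p, hp⟩ := big sa sb hb0
    exact absurd hp (hne p)

end Model

theorem witness_check :
    ((wList.any fun w => Nat.beq w 1056768) && (wList.any fun w => Nat.beq w 10493984) &&
      Nat.beq (pop 1056768) 2 && Nat.beq (pop 2563) 4 &&
      inCode (Nat.xor 10493984 2563) && !inCode (Nat.xor 2563 15)) = true := by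
  decide +kernel

namespace Eleven

variable {G : Type*} [Group G] [Finite G] {z : G} {A : Type*} [AddCommGroup A] (D : Eleven z A)

/-- every involution of the 2-core of the centraliser is conjugate into the elementary abelian
subgroup -/
theorem core_fusion (hJ : Cfsg.IsOfJankoFourTypeAt z) :
    ∀ x ∈ twoCoreOfCentralizer z, x * x = 1 → ∃ g : G, g * x * g⁻¹ ∈ D.V := by
  have hz : orderOf z = 2 := hJ.choose_spec.1
  have hE := D.E₀_nonabelian hJ
  obtain ⟨P, hP⟩ := hJ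
  obtain ⟨M⟩ := LargeFi.J4.model_of_type hP
  have hw := witness_check
  simp only [Bool.and_eq_true, List.any_eq_true, Nat.beq_eq, Bool.not_eq_true'] at hw
  obtain ⟨⟨⟨⟨⟨⟨w, hw1, rfl⟩, w', hw2, rfl⟩, hp1⟩, hp2⟩, hc1⟩, hc2⟩ := hw
  have hev1 : Ev 1056768 := ev_of_check (by norm_num) (by rw [hp1])
  have hev2 : Ev 2563 := ev_of_check (by norm_num) (by rw [hp2])
  -- the duad vector and the tetrad vector
  set d := D.C.S (toSet 1056768) with hd
  set q := D.C.S (toSet 2563) with hq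
  have hdd : d ∈ D.C.duads := D.C.mem_duads_iff.2 ⟨_, by rw [card_toSet, hp1], rfl⟩
  obtain ⟨hq0, hqd⟩ := D.C.tetrad_not_duad (s := toSet 2563) (by rw [card_toSet, hp2])
  have hd0 : d ≠ 0 := by
    intro h
    have h1 : D.C.S (toSet 1056768) = D.C.S (∅ : Finset GolayPt) := h
    have := D.C.S_inj (by simp [card_toSet, hp1]) (by simp [card_toSet, hp1]) h1
    have h2 := congrArg Finset.card this
    rw [card_toSet, hp1] at h2
    simp at h2
  have hnd : ¬ IsConj z (D.vm 1056768) := (D.duad d hd0).1 hdd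
  have hzq : IsConj z (D.vm 2563) := by
    by_contra h
    exact hqd ((D.duad q hq0).2 h)
  have hmd : D.vm 1056768 ∈ D.E₀ := D.wList_mem hz hE _ hw1
  have hmq : D.vm 2563 ∈ D.E₀ := by
    rw [← D.vm_eq (ev_wList hw2) hev2 hc1]; exact D.wList_mem hz hE _ hw2
  have hne : D.vm 2563 ≠ D.vm 15 := by
    intro h
    have h1 : D.vm (2563 ^^^ 15) = 1 := by rw [D.vm_xor, h, D.vm_sq]
    have h2 : inCode (2563 ^^^ 15) = true := D.inCode_of_vm_eq_one (hev2.xor ev_fifteen) h1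
    exact Bool.false_ne_true (hc2.symm.trans h2)
  -- pull back into the centraliser of `z`
  obtain ⟨a, ha, hae⟩ := Subgroup.mem_map.1 (D.mem_E₀.1 hmd)
  obtain ⟨b, hb, hbe⟩ := Subgroup.mem_map.1 (D.mem_E₀.1 hmq)
  change (a : G) = _ at hae
  change (b : G) = _ at hbe
  have hback : ∀ {y : G} (c : ↥(Subgroup.centralizer ({z} : Set G))),
      (c : G) = D.g₀⁻¹ * y * D.g₀ → IsConj y (c : G) := fun c h =>
    isConj_iff.2 ⟨D.g₀⁻¹, by rw [h, inv_inv]⟩
  have ha1 : a ≠ 1 := by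
    intro h
    rw [h, OneMemClass.coe_one] at hae
    refine hd0 (D.ι_inj (Eq.trans ?_ D.ι_zero.symm))
    calc D.ι d = D.g₀ * (D.g₀⁻¹ * D.vm 1056768 * D.g₀) * D.g₀⁻¹ := by rw [hd]; simp [vm, mul_assoc]
      _ = 1 := by rw [← hae]; simp
  have haz : a ≠ LargeFi.zH z := by
    intro h
    have h' : (a : G) = z := congrArg Subtype.val h
    refine hnd ?_
    have := (hback a hae).symm
    rwa [h'] at this
  have hb1 : b ≠ 1 := by
    intro h
    rw [h, OneMemClass.coe_one] at hbe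
    refine hq0 (D.ι_inj (Eq.trans ?_ D.ι_zero.symm))
    calc D.ι q = D.g₀ * (D.g₀⁻¹ * D.vm 2563 * D.g₀) * D.g₀⁻¹ := by rw [hq]; simp [vm, mul_assoc]
      _ = 1 := by rw [← hbe]; simp
  have hbz : b ≠ LargeFi.zH z := by
    intro h
    refine hne ?_
    have h' : D.g₀⁻¹ * D.vm 2563 * D.g₀ = z := by rw [← hbe, h]; rfl
    have e : D.g₀ * (D.g₀⁻¹ * D.vm 2563 * D.g₀) * D.g₀⁻¹ = D.vm 2563 := by group
    rw [h', D.g₀_conj] at e
    exact e.symm
  have hsq : ∀ {m : ℕ} (c : ↥(Subgroup.centralizer ({z} : Set G))),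
      (c : G) = D.g₀⁻¹ * D.vm m * D.g₀ → c * c = 1 := by
    intro m c h
    apply Subtype.ext
    show (c : G) * c = 1
    rw [h]
    calc D.g₀⁻¹ * D.vm m * D.g₀ * (D.g₀⁻¹ * D.vm m * D.g₀)
        = D.g₀⁻¹ * (D.vm m * D.vm m) * D.g₀ := by group
      _ = 1 := by rw [D.vm_sq]; group
  have hnab : ∀ p : ↥(Subgroup.centralizer ({z} : Set G)), p * a * p⁻¹ ≠ b := by
    intro p h
    have h' : IsConj (a : G) (b : G) := isConj_iff.2 ⟨p, congrArg Subtype.val h⟩
    exact hnd (((hzq.trans (hback b hbe)).trans h'.symm).trans (hback a hae).symm)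
  intro x hx hx2
  obtain ⟨c, hc, rfl⟩ := Subgroup.mem_map.1 hx
  have hc2 : c * c = 1 := Subtype.ext hx2
  show ∃ g : G, g * (c : G) * g⁻¹ ∈ D.V
  by_cases hc1 : c = 1
  · exact ⟨1, by simp [hc1]⟩
  by_cases hcz : c = LargeFi.zH z
  · refine ⟨D.g₀, ?_⟩
    rw [show (c : G) = z from congrArg Subtype.val hcz, D.g₀_conj]
    exact D.vm_mem 15
  have push : ∀ {m : ℕ} (e : ↥(Subgroup.centralizer ({z} : Set G))),
      (e : G) = D.g₀⁻¹ * D.vm m * D.g₀ → (∃ p, p * c * p⁻¹ = e) →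
      ∃ g : G, g * (c : G) * g⁻¹ ∈ D.V := by
    rintro m e he ⟨p, hp⟩
    refine ⟨D.g₀ * p, ?_⟩
    have h1 : (p : G) * c * (p : G)⁻¹ = D.g₀⁻¹ * D.vm m * D.g₀ :=
      (congrArg Subtype.val hp).trans he
    rw [show D.g₀ * p * (c : G) * (D.g₀ * p)⁻¹ = D.g₀ * (p * c * (p : G)⁻¹) * D.g₀⁻¹ by group, h1]
    rw [show D.g₀ * (D.g₀⁻¹ * D.vm m * D.g₀) * D.g₀⁻¹ = D.vm m by group]
    exact D.vm_mem m
  rcases two_classes M (a := ⟨a, ha⟩) (b := ⟨b, hb⟩) (c := ⟨c, hc⟩) (hsq a hae) ha1 haz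
    (hsq b hbe) hb1 hbz hc2 hc1 hcz hnab with h | h
  · exact push a hae h
  · exact push b hbe h

/-- the structure of the centraliser of an involution not conjugate to `z` -/
theorem second_centralizer (hJ : Cfsg.IsOfJankoFourTypeAt z)
    (hcent : ∀ t ∈ D.V, t ≠ 1 → ¬ IsConj z t →
      Subgroup.centralizer ({t} : Set G) ≤ Subgroup.normalizer (D.V : Set G))
    {Y : Type*} [Group Y]
    (hY : Nonempty (↥(Cfsg.M24 ⊓ MulAction.stabilizer (Equiv.Perm Cfsg.GolayPt)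
      ({none, some 0} : Set Cfsg.GolayPt)) ≃* Y))
    (t : G) (ht : orderOf t = 2) (hnc : ¬ IsConj z t) :
    ∃ V K : Subgroup G, V ≤ Subgroup.centralizer ({t} : Set G) ∧
      K ≤ Subgroup.centralizer ({t} : Set G) ∧
      Subgroup.centralizer ({t} : Set G) ≤ Subgroup.normalizer (V : Set G) ∧
      Cfsg.IsElementaryAbelian 2 V ∧ Nat.card ↥V = 2 ^ 11 ∧
      K ⊓ V = ⊥ ∧ K ⊔ V = Subgroup.centralizer ({t} : Set G) ∧ Nonempty (↥K ≃* Y) :=
  D.centralizer_structure hJ (D.core_fusion hJ) hcent hY t ht hnc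

end Eleven

end CfsgLib.Spor.JankoFourCentral
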