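import Cfsg.Agent.Lib.Spor.LargeFi.DuadM24
import Cfsg.Agent.Lib.Base.Cores
import Cfsg.Agent.Lib.Spor.JankoFourCentral.Checks
import Cfsg.Prelude.Def_JankoFourType

/-!
The interface for the elementary abelian subgroup of order `2^11` of a group of Janko-four type,
and the action of a complement on it as the even Golay cocode.
-/

set_option autoImplicit false
set_option maxRecDepth 100000

namespace CfsgLib.Spor.JankoFourCentral

open Cfsg CfsgLib.Spor CfsgLib.Spor.DuadM24
open scoped Pointwise symmDiff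

/-- An elementary abelian subgroup of order `2^11` with coordinates in the even cocode, unique in
each Sylow 2-subgroup, with a complement of order `|M24|` in its normaliser, such that the duad
vectors are the nontrivial elements not conjugate to `z`. -/
structure Eleven {G : Type*} [Group G] (z : G) (A : Type*) [AddCommGroup A] where
  V : Subgroup G
  K : Subgroup G
  ι : A → G
  ι_add : ∀ a b, ι (a + b) = ι a * ι b
  ι_inj : Function.Injective ι
  mem_V : ∀ g, g ∈ V ↔ ∃ a, ι a = g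
  elem : Cfsg.IsElementaryAbelian 2 V
  card : Nat.card V = 2 ^ 11
  unique : ∀ T : Sylow 2 G, ∀ B C : Subgroup G, B ≤ (T : Subgroup G) → C ≤ (T : Subgroup G) →
    Cfsg.IsElementaryAbelian 2 B → Nat.card B = 2 ^ 11 →
    Cfsg.IsElementaryAbelian 2 C → Nat.card C = 2 ^ 11 → B = C
  selfCent : Subgroup.centralizer (V : Set G) ≤ V
  inf : K ⊓ V = ⊥
  sup : K ⊔ V = Subgroup.normalizer (V : Set G)
  cardK : Nat.card K = Nat.card M24
  C : Coord A
  duad : ∀ a : A, a ≠ 0 → (a ∈ C.duads ↔ ¬ IsConj z (ι a))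

/-- even masks -/
def Ev (m : ℕ) : Prop := m < 2 ^ 24 ∧ Even (toSet m).card

theorem ev_of_check {m : ℕ} (h1 : m < 2 ^ 24) (h2 : pop m % 2 = 0) : Ev m :=
  ⟨h1, by rw [card_toSet, Nat.even_iff]; exact h2⟩

theorem ev_zero : Ev 0 := ⟨by norm_num, by rw [toSet_zero]; simp⟩

theorem Ev.xor {a b : ℕ} (ha : Ev a) (hb : Ev b) : Ev (a ^^^ b) := by
  refine ⟨Nat.xor_lt_two_pow ha.1 hb.1, ?_⟩
  rw [toSet_xor]
  have h := card_symmDiff_add (toSet a) (toSet b)
  have h1 := ha.2; have h2 := hb.2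
  rw [Nat.even_iff] at *
  omega

theorem ev_of_rep {σ : Equiv.Perm GolayPt} {a m : ℕ} (h : Rep σ a) (hm : Ev m) : Ev (actP a m) :=
  ⟨h.actP_lt m, by rw [h.toSet_actP, Finset.card_smul_finset]; exact hm.2⟩

theorem ev_vList {m : ℕ} (h : m ∈ vList) : Ev m := by
  refine spanList_induction (P := Ev) ev_zero (fun b hb => ?_) (fun a b ha hb => ha.xor hb) m h
  have := List.all_eq_true.1 base_check.2.2.2.2.2.2.2 b hb
  simp only [Bool.and_eq_true, Nat.blt_eq, Nat.beq_eq] at this
  exact ev_of_check this.1 this.2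

theorem vList_xor {a b : ℕ} (ha : a ∈ vList) (hb : b ∈ vList) : a ^^^ b ∈ vList := by
  have key : ∀ (l : List ℕ) (a b : ℕ), a ∈ spanList l → b ∈ spanList l → a ^^^ b ∈ spanList l := by
    intro l
    induction l with
    | nil => intro a b ha hb; simp only [spanList, List.mem_singleton] at *; subst ha hb; rfl
    | cons x xs ih =>
      intro a b ha hb
      simp only [spanList, List.mem_append, List.mem_map] at *
      rcases ha with ha | ⟨a', ha, rfl⟩ <;> rcases hb with hb | ⟨b', hb, rfl⟩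
      · exact Or.inl (ih a b ha hb)
      · exact Or.inr ⟨a ^^^ b', ih a b' ha hb, by rw [← Nat.xor_assoc, Nat.xor_comm x a, Nat.xor_assoc]⟩
      · exact Or.inr ⟨a' ^^^ b, ih a' b ha hb, by rw [Nat.xor_assoc]⟩
      · refine Or.inl ?_
        have e : (x ^^^ a') ^^^ (x ^^^ b') = a' ^^^ b' := by
          rw [Nat.xor_comm x a', Nat.xor_assoc, ← Nat.xor_assoc x x, Nat.xor_self, Nat.zero_xor]
        rw [e]; exact ih a' b' ha hb
  exact key _ a b ha hb

namespace Eleven

variable {G : Type*} [Group G] {z : G} {A : Type*} [AddCommGroup A] (D : Eleven z A)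

theorem ι_zero : D.ι 0 = 1 := by
  have h := D.ι_add 0 0
  rwa [add_zero, left_eq_mul] at h

theorem ι_mem (a : A) : D.ι a ∈ D.V := (D.mem_V _).2 ⟨a, rfl⟩

theorem ι_comm (a b : A) : D.ι a * D.ι b = D.ι b * D.ι a := by
  rw [← D.ι_add, add_comm, D.ι_add]

theorem ι_inv (a : A) : (D.ι a)⁻¹ = D.ι a := by
  refine inv_eq_of_mul_eq_one_right ?_
  rw [← D.ι_add, D.C.two, D.ι_zero]

theorem K_le : D.K ≤ Subgroup.normalizer (D.V : Set G) := D.sup ▸ le_sup_left

theorem exists_conj_vec (g : Subgroup.normalizer (D.V : Set G)) (a : A) :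
    ∃ b, D.ι b = (g : G) * D.ι a * (g : G)⁻¹ :=
  (D.mem_V _).1 ((Subgroup.mem_normalizer_iff.1 g.2 _).1 (D.ι_mem a))

/-- the action of the complement on the vectors -/
noncomputable def act (k : D.K) (a : A) : A :=
  Classical.choose (D.exists_conj_vec ⟨k, D.K_le k.2⟩ a)

theorem ι_act (k : D.K) (a : A) : D.ι (D.act k a) = (k : G) * D.ι a * (k : G)⁻¹ :=
  Classical.choose_spec (D.exists_conj_vec ⟨k, D.K_le k.2⟩ a)

theorem acts : DuadM24.Acts D.C D.act where
  add g a b := D.ι_inj (by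
    rw [D.ι_act, D.ι_add, D.ι_add, D.ι_act, D.ι_act]
    group)
  mul g h a := D.ι_inj (by
    rw [D.ι_act, D.ι_act, D.ι_act, Subgroup.coe_mul]
    group)
  one a := D.ι_inj (by rw [D.ι_act]; simp)
  faith g h := by
    have hc : (g : G) ∈ Subgroup.centralizer (D.V : Set G) := by
      refine Subgroup.mem_centralizer_iff.2 fun v hv => ?_
      obtain ⟨a, rfl⟩ := (D.mem_V v).1 hv
      have := congrArg D.ι (h a)
      rw [D.ι_act, mul_inv_eq_iff_eq_mul] at this
      exact this.symm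
    have h1 : (g : G) ∈ D.K ⊓ D.V := ⟨g.2, D.selfCent hc⟩
    rw [D.inf, Subgroup.mem_bot] at h1
    exact Subtype.ext h1
  duad g x hx := by
    have hne : ∀ a : A, a ∈ D.C.duads → a ≠ 0 := by
      intro a ha h0
      obtain ⟨P, hP, e⟩ := D.C.mem_duads_iff.1 ha
      have h1 : D.C.S P = D.C.S (∅ : Finset GolayPt) := by
        rw [← e, h0]; rfl
      have := D.C.S_inj (by simp [hP]) (by simp [hP]) h1
      rw [this] at hP; simp at hP
    have hx0 := hne x hx
    have hz := (D.duad x hx0).1 hx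
    have h0 : D.act g x ≠ 0 := by
      intro h0
      have e := congrArg D.ι h0
      rw [D.ι_act, D.ι_zero, conj_eq_one_iff, ← D.ι_zero] at e
      exact hx0 (D.ι_inj e)
    refine (D.duad _ h0).2 fun hc => hz (hc.trans ?_)
    exact (isConj_iff.2 ⟨(g : G), (D.ι_act g x).symm⟩).symm
  card := by rw [D.cardK, natCard_M24]; norm_num

theorem exists_equiv : ∃ e : D.K ≃* M24, ∀ (k : D.K) (s : Finset GolayPt), Even s.card →
    D.act k (D.C.S s) = D.C.S ((e k : Equiv.Perm GolayPt) • s) := D.acts.exists_iso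

/-- the identification of the complement with `M24` -/
noncomputable def e : D.K ≃* M24 := Classical.choose D.exists_equiv

theorem act_S (k : D.K) {s : Finset GolayPt} (hs : Even s.card) :
    D.act k (D.C.S s) = D.C.S ((D.e k : Equiv.Perm GolayPt) • s) :=
  Classical.choose_spec D.exists_equiv k s hs

/-- the lift of a permutation of the code group -/
noncomputable def L (σ : M24) : G := ((D.e.symm σ : D.K) : G)

theorem L_mul (σ τ : M24) : D.L (σ * τ) = D.L σ * D.L τ := by simp [L]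

theorem L_one : D.L 1 = 1 := by simp [L]

theorem L_inv (σ : M24) : D.L σ⁻¹ = (D.L σ)⁻¹ := by simp [L]

theorem L_inj {σ τ : M24} (h : D.L σ = D.L τ) : σ = τ :=
  D.e.symm.injective (Subtype.ext h)

theorem L_mem_K (σ : M24) : D.L σ ∈ D.K := (D.e.symm σ).2

theorem L_mem (σ : M24) : D.L σ ∈ Subgroup.normalizer (D.V : Set G) := D.K_le (D.L_mem_K σ)

theorem exists_L {g : G} (hg : g ∈ D.K) : ∃ σ, D.L σ = g :=
  ⟨D.e ⟨g, hg⟩, by simp [L]⟩

theorem L_conj (σ : M24) {s : Finset GolayPt} (hs : Even s.card) :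
    D.L σ * D.ι (D.C.S s) * (D.L σ)⁻¹ = D.ι (D.C.S ((σ : Equiv.Perm GolayPt) • s)) := by
  have h := congrArg D.ι (D.act_S (D.e.symm σ) hs)
  rw [D.ι_act, D.e.apply_symm_apply] at h
  exact h

/-- the vector of a mask -/
def vm (m : ℕ) : G := D.ι (D.C.S (toSet m))

theorem vm_mem (m : ℕ) : D.vm m ∈ D.V := D.ι_mem _

theorem vm_xor (a b : ℕ) : D.vm (a ^^^ b) = D.vm a * D.vm b := by
  rw [vm, toSet_xor, D.C.S_symmDiff, D.ι_add]; rfl

theorem vm_zero : D.vm 0 = 1 := by
  rw [vm, toSet_zero, ← D.ι_zero]; rfl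

theorem vm_sq (a : ℕ) : D.vm a * D.vm a = 1 := by rw [← D.vm_xor, Nat.xor_self, D.vm_zero]

theorem vm_comm (a b : ℕ) : D.vm a * D.vm b = D.vm b * D.vm a := D.ι_comm _ _

theorem vm_inv (a : ℕ) : (D.vm a)⁻¹ = D.vm a := inv_eq_of_mul_eq_one_right (D.vm_sq a)

theorem vm_eq_one {m : ℕ} (hm : Ev m) (h : inCode m = true) : D.vm m = 1 := by
  rw [vm, ← D.ι_zero]
  congr 1
  refine (D.C.rel _ hm.2).2 ?_
  rw [mem_supports_iff_inCode, mask_toSet hm.1]
  exact h

theorem inCode_of_vm_eq_one {m : ℕ} (hm : Ev m) (h : D.vm m = 1) : inCode m = true := by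
  rw [vm, ← D.ι_zero] at h
  have := (D.C.rel _ hm.2).1 (D.ι_inj h)
  rwa [mem_supports_iff_inCode, mask_toSet hm.1] at this

theorem vm_eq {a b : ℕ} (ha : Ev a) (hb : Ev b) (h : inCode (a ^^^ b) = true) :
    D.vm a = D.vm b := by
  have := D.vm_eq_one (ha.xor hb) h
  rw [D.vm_xor, mul_eq_one_iff_eq_inv, D.vm_inv] at this
  exact this

theorem L_vm {σ : M24} {a m : ℕ} (hr : Rep (σ : Equiv.Perm GolayPt) a) (hm : Ev m) :
    D.L σ * D.vm m * (D.L σ)⁻¹ = D.vm (actP a m) := by
  rw [vm, D.L_conj σ hm.2, ← hr.toSet_actP]; rfl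

/-- every vector is represented in the list of masks -/
theorem exists_vm {v : G} (hv : v ∈ D.V) : ∃ m ∈ vList, D.vm m = v := by
  classical
  obtain ⟨a, rfl⟩ := (D.mem_V v).1 hv
  obtain ⟨s, hs, rfl⟩ := D.C.gen a
  let R : Set G := {g | ∃ m ∈ vList, D.vm m = g}
  have h0 : (1 : G) ∈ R := ⟨0, by decide +kernel, D.vm_zero⟩
  have hmul : ∀ x y, x ∈ R → y ∈ R → x * y ∈ R := by
    rintro _ _ ⟨a, ha, rfl⟩ ⟨b, hb, rfl⟩
    exact ⟨a ^^^ b, vList_xor ha hb, D.vm_xor a b⟩
  have hgen : ∀ p : GolayPt, D.ι (D.C.q p + D.C.q none) ∈ R := by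
    intro p
    by_cases hp : idx p < 23
    · obtain ⟨hlen, hin, hcode⟩ := pair_check
      simp only [List.all_eq_true, List.mem_range, List.any_eq_true, Nat.beq_eq] at hin hcode
      obtain ⟨m, hm, hme⟩ := hin _ hp
      refine ⟨m, hm, ?_⟩
      have hne : p ≠ none := fun e => by rw [e] at hp; exact absurd hp (by decide)
      have hset : toSet (2 ^ idx p ^^^ 2 ^ 23) = {p, none} := by
        rw [toSet_xor]
        ext q
        have e1 : q ∈ toSet (2 ^ idx p) ↔ q = p := by
          rw [mem_toSet, Nat.testBit_two_pow, decide_eq_true_eq]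
          exact ⟨fun h => idx_injective h.symm, fun h => by rw [h]⟩
        have e2 : q ∈ toSet (2 ^ 23) ↔ q = none := by
          rw [mem_toSet, Nat.testBit_two_pow, decide_eq_true_eq]
          exact ⟨fun h => idx_injective (h.symm.trans rfl), fun h => by rw [h]; rfl⟩
        rw [Finset.mem_symmDiff, e1, e2, Finset.mem_insert, Finset.mem_singleton]
        constructor
        · rintro (⟨h, -⟩ | ⟨h, -⟩) <;> simp [h]
        · rintro (rfl | rfl)
          · exact Or.inl ⟨rfl, hne⟩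
          · exact Or.inr ⟨rfl, fun h => hne h.symm⟩
      have hev : Ev (2 ^ idx p ^^^ 2 ^ 23) :=
        ⟨Nat.xor_lt_two_pow (Nat.pow_lt_pow_right (by norm_num) (idx_lt p)) (by norm_num),
          by rw [hset, Finset.card_pair hne]; decide⟩
      rw [D.vm_eq (ev_vList hm) hev (by rw [hme]; exact hcode _ hp), vm, hset, D.C.S_pair hne]
    · have e : p = none := idx_injective (by
        have h1 := idx_lt p
        show idx p = 23
        omega)
      rw [e, D.C.two, D.ι_zero]; exact h0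
  have key : ∀ t : Finset GolayPt, D.ι (∑ p ∈ t, (D.C.q p + D.C.q none)) ∈ R := by
    intro t
    induction t using Finset.induction_on with
    | empty => rw [Finset.sum_empty, D.ι_zero]; exact h0
    | insert p t hp ih => rw [Finset.sum_insert hp, D.ι_add]; exact hmul _ _ (hgen p) ih
  have := key s
  have he : ∑ p ∈ s, (D.C.q p + D.C.q none) = ∑ p ∈ s, D.C.q p := by
    rw [Finset.sum_add_distrib, Finset.sum_const]
    obtain ⟨k, hk⟩ := hs
    rw [hk, add_nsmul, D.C.two, add_zero]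
  rwa [he] at this

end Eleven

end CfsgLib.Spor.JankoFourCentral
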