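import Cfsg.Agent.Lib.Spor.FpfCentral
import Cfsg.Agent.Lib.Spor.JankoFourCentral.Setting

/-!
Fusion of involutions into the elementary abelian subgroup of order `2^11`: every involution is
conjugate to an element of the extraspecial 2-core attached to a sextet vector, hence into the
elementary abelian subgroup as soon as the involutions of one such core are.
-/

set_option autoImplicit false
set_option maxRecDepth 100000

namespace CfsgLib.Spor.JankoFourCentral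

open Cfsg CfsgLib.Spor CfsgLib.Base
open scoped Pointwise symmDiff

theorem rep_mul_one {σ : Equiv.Perm GolayPt} {a : ℕ} (h : Rep σ a) : Rep σ (compP a idP) := by
  have h1 : Rep (σ * 1) (compP a idP) := h.mul rep_one
  rwa [mul_one] at h1

theorem eq_of_conjOK {g a b : ℕ} {σ α β : Equiv.Perm GolayPt} (hg : Rep σ g) (ha : Rep α a)
    (hb : Rep β b) (h : conjOK g a b = true) : σ * α = β * σ := by
  rw [conjOK, Nat.beq_eq] at h
  exact (hg.mul ha).inj (by rw [h]; exact hb.mul hg)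

theorem eq_of_mulOK {a b c : ℕ} {α β γ : Equiv.Perm GolayPt} (ha : Rep α a) (hb : Rep β b)
    (hc : Rep γ c) (h : mulOK a b c = true) : α * β = γ := by
  rw [mulOK, Nat.beq_eq] at h
  exact (ha.mul hb).inj (by rw [h]; exact rep_mul_one hc)

theorem eq_one_of_oneOK {a : ℕ} {α : Equiv.Perm GolayPt} (ha : Rep α a) (h : oneOK a = true) :
    α = 1 := by
  rw [oneOK, Nat.beq_eq] at h
  exact (rep_mul_one ha).inj (by rw [h]; exact rep_mul_one rep_one)

theorem sexBase_zero : sexBase.getD 0 0 = 15 := Nat.beq_eq ▸ base_check.1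

/-- the translation with a given index -/
theorem tEl_rep {j : ℕ} (hj : j < 64) : ∃ σ : M24, (σ : Equiv.Perm GolayPt) ∈ baseSq ∧
    Rep (σ : Equiv.Perm GolayPt) (tEl j) ∧ tEl j ∈ sexInvol := by
  have hm : tEl j ∈ sexInvol := by
    rw [tEl, List.getD_eq_getElem _ _ (by rw [base_check.2.1]; exact hj)]
    exact List.getElem_mem _
  obtain ⟨x, hx, hr⟩ := sexInvol_rep hm
  exact ⟨⟨x, hx.1⟩, hx, hr, hm⟩

theorem exists_index {a : ℕ} (ha : a ∈ sexInvol) : ∃ j < 64, tEl j = a := by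
  obtain ⟨j, hj, rfl⟩ := List.getElem_of_mem ha
  exact ⟨j, by rw [← base_check.2.1]; exact hj, by rw [tEl, List.getD_eq_getElem]⟩

/-- permutations in the stabiliser of the sextet commuting with all its translations are translations -/
theorem baseSq_of_commute {x : Equiv.Perm GolayPt} (hx : x ∈ M24)
    (hc : ∀ b ∈ baseSq, x * b = b * x) : x ∈ baseSq := by
  have hfix : ∀ t ∈ sexK.ix.sem 0, x • t = t := by
    intro t ht
    rw [sexSem_zero] at ht
    obtain ⟨k, -, rfl⟩ := Finset.mem_image.1 ht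
    have hk : (k : ℕ) < sexBase.length := by rw [sexBase_facts.1]; exact k.2
    have key : ∀ p, (p ∈ tetradB k ↔ x p ∈ tetradB k) := by
      intro p
      have h := fixed_check
      simp only [List.all_eq_true, List.mem_range, Bool.or_eq_true, Bool.not_eq_true',
        beq_iff_eq] at h
      rcases h (idx p) (idx_lt p) (idx (x p)) (idx_lt _) with h | h
      · exfalso
        rw [← Bool.not_eq_true] at h
        refine h (List.all_eq_true.2 fun a ha => ?_)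
        obtain ⟨b, hb, hr⟩ := sexInvol_rep ha
        rw [beq_iff_eq, Bool.eq_iff_iff, Nat.beq_eq, Nat.beq_eq, ← hr.fix_iff (idx_lt p),
          ← hr.fix_iff (idx_lt (x p)), pt_idx, pt_idx]
        constructor
        · intro e
          have := congrArg (fun f : Equiv.Perm GolayPt => f p) (hc b hb)
          simp only [Equiv.Perm.mul_apply, e] at this
          exact this.symm
        · intro e
          have := congrArg (fun f : Equiv.Perm GolayPt => f p) (hc b hb)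
          simp only [Equiv.Perm.mul_apply, e] at this
          exact x.injective this
      · have := h _ (List.getElem_mem hk)
        rw [tetradB, List.getD_eq_getElem _ _ hk, mem_toSet, mem_toSet, this]
    refine Finset.eq_of_subset_of_card_le (fun y hy => ?_) (Finset.card_smul_finset _ _).ge
    obtain ⟨p, hp, rfl⟩ := Finset.mem_smul_finset.1 hy
    exact (key p).1 hp
  refine ⟨hx, hfix, ?_⟩
  obtain ⟨i, hi, hr⟩ := listed_complete sexKer_listed (baseKer_subset hx hfix)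
  have h := kernel_check
  simp only [List.all_eq_true, List.mem_range, Bool.or_eq_true, Bool.not_eq_true'] at h
  rcases h i hi with h | h
  · exfalso
    rw [← Bool.not_eq_true] at h
    refine h (List.all_eq_true.2 fun j hj => ?_)
    have hj64 : j < 64 := Nat.blt_eq.mp (List.all_eq_true.1 base_check.2.2.2.2.2.2.1 j hj)
    obtain ⟨σ, hσ, hs, -⟩ := tEl_rep hj64
    rw [Nat.beq_eq, hr.compP_eq hs, hs.compP_eq hr, hc _ hσ]
  · exact eq_one_of_oneOK (hr.mul hr) h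

/-- a set of points with the vector of the first tetrad is a tetrad of the first sextet -/
theorem mem_sextet_of_code {s : Finset GolayPt} (hs : s.card = 4)
    (hc : inCode (mask s ^^^ 15) = true) : s ∈ sexK.ix.sem 0 := by
  rw [sexSem_zero]
  obtain ⟨p, hp⟩ := Finset.card_pos.1 (by omega : 0 < s.card)
  have h4 := base_check.2.2.2.1
  simp only [List.all_eq_true, List.mem_range, List.any_eq_true] at h4
  obtain ⟨t, ht, hb⟩ := h4 _ (idx_lt p)
  have h3 := List.all_eq_true.1 base_check.2.2.1 t ht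
  simp only [Bool.and_eq_true, Nat.beq_eq, Nat.blt_eq] at h3
  obtain ⟨⟨hin, hpop⟩, hlt⟩ := h3
  obtain ⟨k, hk, rfl⟩ := List.getElem_of_mem ht
  refine Finset.mem_image.2 ⟨⟨k, by rw [sexBase_facts.1] at hk; exact hk⟩, Finset.mem_univ _, ?_⟩
  rw [tetradB, List.getD_eq_getElem _ _ hk]
  have hsup : inCode (mask s ^^^ sexBase[k]) = true := by
    have := inCode_xor hc (show inCode (15 ^^^ sexBase[k]) = true from hin)
    rwa [Nat.xor_assoc, ← Nat.xor_assoc 15, Nat.xor_self, Nat.zero_xor] at this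
  have hmem : s ∆ toSet sexBase[k] ∈ supports (golayCode : Set (GolayPt → ZMod 2)) := by
    rw [mem_supports_iff_inCode, ← toSet_mask s, ← toSet_xor,
      mask_toSet (Nat.xor_lt_two_pow (mask_lt _) hlt)]
    exact hsup
  have hcard := card_symmDiff_add s (toSet sexBase[k])
  have hint : 0 < (s ∩ toSet sexBase[k]).card :=
    Finset.card_pos.2 ⟨p, Finset.mem_inter.2 ⟨hp, mem_toSet.2 hb⟩⟩
  rw [card_toSet, hpop, hs] at hcard
  have h0 : (s ∆ toSet sexBase[k]).card = 0 := by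
    rcases DuadM24.card_cases hmem with h | h | h | h | h <;> omega
  exact (symmDiff_eq_bot.1 (Finset.card_eq_zero.1 h0)).symm

namespace Eleven

variable {G : Type*} [Group G] [Finite G] {z : G} {A : Type*} [AddCommGroup A] (D : Eleven z A)

/-- the vector of the first tetrad -/
def z₀ : G := D.vm 15

theorem ev_fifteen : Ev 15 := ev_of_check (by norm_num) (by decide +kernel)

theorem isConj_z₀ : IsConj z D.z₀ := by
  obtain ⟨h0, hd⟩ := D.C.tetrad_not_duad (s := toSet 15) (by decide +kernel)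
  by_contra h
  exact hd ((D.duad _ h0).2 h)

/-- a conjugating element from `z` to the vector of the first tetrad -/
noncomputable def g₀ : G := Classical.choose (isConj_iff.1 D.isConj_z₀)

theorem g₀_conj : D.g₀ * z * D.g₀⁻¹ = D.z₀ := Classical.choose_spec (isConj_iff.1 D.isConj_z₀)

/-- the 2-core attached to the first tetrad -/
noncomputable def E₀ : Subgroup G :=
  (twoCoreOfCentralizer z).map (MulAut.conj D.g₀).toMonoidHom

theorem mem_E₀ {x : G} : x ∈ D.E₀ ↔ D.g₀⁻¹ * x * D.g₀ ∈ twoCoreOfCentralizer z := by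
  rw [E₀, Subgroup.mem_map_equiv, MulAut.conj_symm_apply]

omit [Finite G] in
theorem conj_twoCore {c x : G} (hc : c * z = z * c) (hx : x ∈ twoCoreOfCentralizer z) :
    c * x * c⁻¹ ∈ twoCoreOfCentralizer z := by
  obtain ⟨y, hy, rfl⟩ := Subgroup.mem_map.1 hx
  have hcm : c ∈ Subgroup.centralizer ({z} : Set G) :=
    Subgroup.mem_centralizer_singleton_iff.2 hc
  haveI : (pCore 2 ↥(Subgroup.centralizer ({z} : Set G))).Normal :=
    pCore_normal 2 _
  exact ⟨⟨c, hcm⟩ * y * ⟨c, hcm⟩⁻¹,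
    Subgroup.Normal.conj_mem inferInstance y hy ⟨c, hcm⟩, by simp⟩

theorem cent_conj {c x : G} (hc : c * D.z₀ = D.z₀ * c) (hx : x ∈ D.E₀) : c * x * c⁻¹ ∈ D.E₀ := by
  rw [D.mem_E₀] at hx ⊢
  have hc' : (D.g₀⁻¹ * c * D.g₀) * z = z * (D.g₀⁻¹ * c * D.g₀) := by
    calc D.g₀⁻¹ * c * D.g₀ * z = D.g₀⁻¹ * (c * (D.g₀ * z * D.g₀⁻¹)) * D.g₀ := by group
      _ = D.g₀⁻¹ * ((D.g₀ * z * D.g₀⁻¹) * c) * D.g₀ := by rw [D.g₀_conj, hc]
      _ = _ := by group
  have := conj_twoCore hc' hx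
  have e2 : D.g₀⁻¹ * (c * x * c⁻¹) * D.g₀ =
      (D.g₀⁻¹ * c * D.g₀) * (D.g₀⁻¹ * x * D.g₀) * (D.g₀⁻¹ * c * D.g₀)⁻¹ := by group
  rwa [e2]

theorem z₀_mem (hz : orderOf z = 2) : D.z₀ ∈ D.E₀ := by
  rw [D.mem_E₀, ← D.g₀_conj]
  have hzc : z ∈ Subgroup.centralizer ({z} : Set G) :=
    Subgroup.mem_centralizer_singleton_iff.2 rfl
  have e : D.g₀⁻¹ * (D.g₀ * z * D.g₀⁻¹) * D.g₀ = z := by group
  rw [e]
  refine ⟨⟨z, hzc⟩, ?_, rfl⟩
  haveI hN : (Subgroup.zpowers (⟨z, hzc⟩ : ↥(Subgroup.centralizer ({z} : Set G)))).Normal := by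
    refine ⟨fun n hn g => ?_⟩
    obtain ⟨k, rfl⟩ := Subgroup.mem_zpowers_iff.1 hn
    refine Subgroup.mem_zpowers_iff.2 ⟨k, ?_⟩
    have hg : g * (⟨z, hzc⟩ : ↥(Subgroup.centralizer ({z} : Set G))) = ⟨z, hzc⟩ * g :=
      Subtype.ext (Subgroup.mem_centralizer_singleton_iff.1 g.2)
    rw [Commute.zpow_right hg k, mul_inv_cancel_right]
  refine CfsgLib.Base.le_pCore (IsPGroup.of_card (n := 1) ?_) (Subgroup.mem_zpowers _)
  rw [Nat.card_zpowers, ← Subgroup.orderOf_coe]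
  simpa using hz

theorem isPGroup_E₀ : IsPGroup 2 D.E₀ :=
  (((CfsgLib.Base.isPGroup_pCore 2 _).map _).map _)

theorem isPGroup_V : IsPGroup 2 D.V := IsPGroup.of_card D.card

theorem V_cent {v : G} (hv : v ∈ D.V) : v * D.z₀ = D.z₀ * v := by
  obtain ⟨a, rfl⟩ := (D.mem_V v).1 hv
  exact D.ι_comm _ _

theorem vm_conj_E₀ {x : G} (m : ℕ) (hx : x ∈ D.E₀) : D.vm m * x * (D.vm m)⁻¹ ∈ D.E₀ :=
  D.cent_conj (D.V_cent (D.vm_mem m)) hx

theorem conj_elementary {B : Subgroup G} (g : G) (hB : Cfsg.IsElementaryAbelian 2 B) :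
    Cfsg.IsElementaryAbelian 2 (B.map (MulAut.conj g).toMonoidHom) := by
  obtain ⟨⟨hcomm⟩, hexp⟩ := hB
  refine ⟨⟨⟨fun x y => Subtype.ext ?_⟩⟩, fun x hx => ?_⟩
  · obtain ⟨x', hx', ex⟩ := Subgroup.mem_map.1 x.2
    obtain ⟨y', hy', ey⟩ := Subgroup.mem_map.1 y.2
    show (x : G) * y = y * x
    rw [← ex, ← ey, ← map_mul, ← map_mul]
    exact congrArg _ (congrArg Subtype.val (hcomm.comm ⟨x', hx'⟩ ⟨y', hy'⟩))
  · obtain ⟨x', hx', ex⟩ := Subgroup.mem_map.1 hx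
    rw [← ex, ← map_pow, hexp x' hx', map_one]

theorem eq_conj_of_le (T : Sylow 2 G) (g : G) (hV : D.V ≤ (T : Subgroup G))
    (hg : D.V.map (MulAut.conj g).toMonoidHom ≤ (T : Subgroup G)) :
    D.V.map (MulAut.conj g).toMonoidHom = D.V :=
  D.unique T _ _ hg hV (conj_elementary g D.elem)
    (by rw [Subgroup.card_map_of_injective (MulAut.conj g).injective, D.card]) D.elem D.card

theorem mem_normalizer_of_map {g : G} (h : D.V.map (MulAut.conj g).toMonoidHom = D.V) :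
    g ∈ Subgroup.normalizer (D.V : Set G) := by
  refine Subgroup.mem_normalizer_iff.2 fun x => ⟨fun hx => ?_, fun hx => ?_⟩
  · rw [← h]; exact ⟨x, hx, rfl⟩
  · rw [← h] at hx
    obtain ⟨y, hy, e⟩ := Subgroup.mem_map.1 hx
    have : y = x := (MulAut.conj g).injective e
    exact this ▸ hy

theorem E₀_le : D.E₀ ≤ Subgroup.normalizer (D.V : Set G) := by
  intro x hx
  have hVE : D.V ≤ Subgroup.normalizer (D.E₀ : Set G) := fun v hv =>
    Subgroup.mem_normalizer_iff.2 fun y => ⟨fun hy => D.cent_conj (D.V_cent hv) hy, fun hy => by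
      have h2 := D.cent_conj (D.V_cent (inv_mem hv)) hy
      simpa [mul_assoc] using h2⟩
  have hP : IsPGroup 2 (D.V ⊔ D.E₀ : Subgroup G) :=
    D.isPGroup_V.to_sup_of_normal_right' D.isPGroup_E₀ hVE
  obtain ⟨T, hT⟩ := hP.exists_le_sylow
  refine D.mem_normalizer_of_map (D.eq_conj_of_le T x (le_sup_left.trans hT) ?_)
  rintro y hy
  obtain ⟨v, hv, rfl⟩ := Subgroup.mem_map.1 hy
  exact hT (mul_mem (mul_mem (Subgroup.mem_sup_right hx) (Subgroup.mem_sup_left hv))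
    (inv_mem (Subgroup.mem_sup_right hx)))

theorem decompose {g : G} (hg : g ∈ Subgroup.normalizer (D.V : Set G)) :
    ∃ v ∈ D.V, ∃ σ : M24, g = v * D.L σ := by
  have h : g ∈ (↑(D.V ⊔ D.K) : Set G) := by
    rw [sup_comm, D.sup]; exact hg
  rw [Subgroup.coe_mul_of_right_le_normalizer_left _ _ D.K_le] at h
  obtain ⟨v, hv, k, hk, rfl⟩ := h
  obtain ⟨σ, rfl⟩ := D.exists_L hk
  exact ⟨v, hv, σ, rfl⟩

/-- the permutations occurring in the 2-core attached to the first tetrad -/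
def InE (σ : M24) : Prop := ∃ v ∈ D.V, v * D.L σ ∈ D.E₀

theorem inE_mul {σ τ : M24} (h1 : D.InE σ) (h2 : D.InE τ) : D.InE (σ * τ) := by
  obtain ⟨v, hv, hvE⟩ := h1
  obtain ⟨w, hw, hwE⟩ := h2
  refine ⟨v * (D.L σ * w * (D.L σ)⁻¹),
    mul_mem hv ((Subgroup.mem_normalizer_iff.1 (D.L_mem σ) w).1 hw), ?_⟩
  rw [D.L_mul, show v * (D.L σ * w * (D.L σ)⁻¹) * (D.L σ * D.L τ) =
    (v * D.L σ) * (w * D.L τ) by group]
  exact mul_mem hvE hwE

theorem inE_one : D.InE 1 := ⟨1, one_mem _, by rw [one_mul, D.L_one]; exact one_mem _⟩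

theorem inE_inv {σ : M24} (h : D.InE σ) : D.InE σ⁻¹ := by
  obtain ⟨v, hv, hvE⟩ := h
  refine ⟨(D.L σ)⁻¹ * v⁻¹ * D.L σ, ?_, ?_⟩
  · have := (Subgroup.mem_normalizer_iff.1 (inv_mem (D.L_mem σ)) v⁻¹).1 (inv_mem hv)
    rwa [inv_inv] at this
  · rw [D.L_inv, show (D.L σ)⁻¹ * v⁻¹ * D.L σ * (D.L σ)⁻¹ = (v * D.L σ)⁻¹ by group]
    exact inv_mem hvE

theorem inE_conj {σ τ : M24} (hc : D.L τ * D.z₀ = D.z₀ * D.L τ) (h : D.InE σ) :
    D.InE (τ * σ * τ⁻¹) := by
  obtain ⟨v, hv, hvE⟩ := h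
  refine ⟨D.L τ * v * (D.L τ)⁻¹, (Subgroup.mem_normalizer_iff.1 (D.L_mem τ) v).1 hv, ?_⟩
  rw [D.L_mul, D.L_mul, D.L_inv, show D.L τ * v * (D.L τ)⁻¹ * (D.L τ * D.L σ * (D.L τ)⁻¹) =
    D.L τ * (v * D.L σ) * (D.L τ)⁻¹ by group]
  exact D.cent_conj hc hvE

theorem L_cent {σ : M24} {a : ℕ} (hr : Rep (σ : Equiv.Perm GolayPt) a)
    (h : inCode (15 ^^^ actP a 15) = true) : D.L σ * D.z₀ = D.z₀ * D.L σ := by
  have h1 := D.L_vm hr ev_fifteen
  rw [← D.vm_eq ev_fifteen (ev_of_rep hr ev_fifteen) h] at h1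
  exact mul_inv_eq_iff_eq_mul.1 h1

theorem tEl_cent {σ : M24} {j : ℕ} (hr : Rep (σ : Equiv.Perm GolayPt) (tEl j))
    (hj : tEl j ∈ sexInvol) : D.L σ * D.z₀ = D.z₀ * D.L σ := by
  have h := List.all_eq_true.1 base_check.2.2.2.2.2.1 _ hj
  simp only [Bool.and_eq_true] at h
  exact D.L_cent hr h.2

theorem exists_sEl {g : ℕ} (hg : g < sGens.length) :
    ∃ σ : M24, Rep (σ : Equiv.Perm GolayPt) (sEl g) ∧ D.L σ * D.z₀ = D.z₀ * D.L σ := by
  have h := List.all_eq_true.1 base_check.2.2.2.2.1 (sEl g) (by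
    rw [sEl, List.getD_eq_getElem _ _ hg]; exact List.getElem_mem _)
  simp only [Bool.and_eq_true] at h
  obtain ⟨σ, hσ, hr⟩ := exists_rep_M24 h.1
  exact ⟨⟨σ, hσ⟩, hr, D.L_cent hr h.2⟩

/-- membership of a translation given by its index -/
def InJ (j : ℕ) : Prop := ∀ σ : M24, Rep (σ : Equiv.Perm GolayPt) (tEl j) → D.InE σ

theorem inJ_of {j : ℕ} {σ : M24} (hr : Rep (σ : Equiv.Perm GolayPt) (tEl j)) (h : D.InE σ) :
    D.InJ j := fun τ hτ => Subtype.ext (hr.inj hτ) ▸ h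

/-- the stabiliser of the sextet has a nontrivial translation among the permutations of the core -/
theorem exists_nontrivial_translation
    (hE : ∃ a ∈ D.E₀, ∃ b ∈ D.E₀, a * b ≠ b * a) :
    ∃ σ : M24, σ ≠ 1 ∧ (σ : Equiv.Perm GolayPt) ∈ baseSq ∧ D.InE σ := by
  obtain ⟨x, hx1, hx⟩ : ∃ x : M24, x ≠ 1 ∧ D.InE x := by
    obtain ⟨a, ha, b, hb, hab⟩ := hE
    by_contra hno
    push Not at hno
    have key : ∀ y ∈ D.E₀, y ∈ D.V := by
      intro y hy
      obtain ⟨v, hv, σ, rfl⟩ := D.decompose (D.E₀_le hy)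
      by_cases h : σ = 1
      · subst h; rwa [D.L_one, mul_one]
      · exact absurd ⟨v, hv, hy⟩ (hno σ h)
    obtain ⟨a', rfl⟩ := (D.mem_V a).1 (key a ha)
    obtain ⟨b', rfl⟩ := (D.mem_V b).1 (key b hb)
    exact hab (D.ι_comm a' b')
  have hcomm : D.L x * D.z₀ = D.z₀ * D.L x := by
    obtain ⟨v, hv, hvE⟩ := hx
    have h1 : v * D.L x * D.z₀ = D.z₀ * (v * D.L x) := by
      have h2 := D.mem_E₀.1 hvE
      obtain ⟨y, -, hy⟩ := Subgroup.mem_map.1 h2
      have hc := Subgroup.mem_centralizer_singleton_iff.1 y.2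
      rw [show (y : G) = D.g₀⁻¹ * (v * D.L x) * D.g₀ from hy] at hc
      rw [← D.g₀_conj]
      calc v * D.L x * (D.g₀ * z * D.g₀⁻¹)
          = D.g₀ * (D.g₀⁻¹ * (v * D.L x) * D.g₀ * z) * D.g₀⁻¹ := by group
        _ = D.g₀ * (z * (D.g₀⁻¹ * (v * D.L x) * D.g₀)) * D.g₀⁻¹ := by rw [hc]
        _ = _ := by group
    rw [← mul_assoc, ← D.V_cent hv, mul_assoc, mul_assoc] at h1
    exact mul_left_cancel h1
  -- `x` permutes the tetrads of the first sextet
  have hS : (x : Equiv.Perm GolayPt) • sexK.ix.sem 0 = sexK.ix.sem 0 := by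
    refine Finset.eq_of_subset_of_card_le (fun y hy => ?_) (Finset.card_smul_finset _ _).ge
    obtain ⟨t, ht, rfl⟩ := Finset.mem_smul_finset.1 hy
    rw [sexSem_zero] at ht
    obtain ⟨k, -, rfl⟩ := Finset.mem_image.1 ht
    have hk : (k : ℕ) < sexBase.length := by rw [sexBase_facts.1]; exact k.2
    have h3 := List.all_eq_true.1 base_check.2.2.1 _ (List.getElem_mem hk)
    simp only [Bool.and_eq_true, Nat.beq_eq, Nat.blt_eq] at h3
    obtain ⟨⟨hin, hpop⟩, hlt⟩ := h3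
    rw [tetradB, List.getD_eq_getElem _ _ hk]
    set t := sexBase[(k : ℕ)]
    have hev : Ev t := ev_of_check hlt (by rw [hpop])
    have hevx : Ev (mask ((x : Equiv.Perm GolayPt) • toSet t)) :=
      ⟨mask_lt _, by rw [toSet_mask, Finset.card_smul_finset]; exact hev.2⟩
    refine mem_sextet_of_code (by rw [Finset.card_smul_finset, card_toSet, hpop]) ?_
    refine D.inCode_of_vm_eq_one (hevx.xor ev_fifteen) ?_
    rw [D.vm_xor]
    have e1 : D.vm t = D.vm 15 := D.vm_eq hev ev_fifteen (by rwa [Nat.xor_comm])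
    have e2 : D.vm (mask ((x : Equiv.Perm GolayPt) • toSet t)) = D.L x * D.vm t * (D.L x)⁻¹ := by
      rw [vm, vm, toSet_mask, D.L_conj x hev.2]
    rw [e2, e1, show D.vm 15 = D.z₀ from rfl, hcomm, mul_inv_cancel_right]
    exact D.vm_sq 15
  by_cases hall : ∀ b ∈ baseSq, (x : Equiv.Perm GolayPt) * b = b * x
  · exact ⟨x, hx1, baseSq_of_commute x.2 hall, hx⟩
  push Not at hall
  obtain ⟨b, hb, hne⟩ := hall
  let β : M24 := ⟨b, hb.1⟩
  obtain ⟨a, ha, hra⟩ := baseSq_rep hb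
  obtain ⟨j, hj, rfl⟩ := exists_index ha
  have hβ : D.L β * D.z₀ = D.z₀ * D.L β := D.tEl_cent hra ha
  refine ⟨x * β * x⁻¹ * β⁻¹, ?_, ?_, ?_⟩
  · intro h
    have h' : x * β = β * x := by
      rw [mul_inv_eq_one, mul_inv_eq_iff_eq_mul] at h; exact h
    exact hne (congrArg Subtype.val h')
  · have hb' : (x : Equiv.Perm GolayPt) * b * (x : Equiv.Perm GolayPt)⁻¹ ∈ baseSq := by
      refine ⟨mul_mem (mul_mem x.2 hb.1) (inv_mem x.2), fun t ht => ?_, ?_⟩
      · have ht' : (x : Equiv.Perm GolayPt)⁻¹ • t ∈ sexK.ix.sem 0 := by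
          have h := Finset.smul_mem_smul_finset (a := (x : Equiv.Perm GolayPt)⁻¹) ht
          rwa [inv_smul_eq_iff.2 hS.symm] at h
        rw [mul_smul, mul_smul, hb.2.1 _ ht', smul_inv_smul]
      · calc (x : Equiv.Perm GolayPt) * b * (x : Equiv.Perm GolayPt)⁻¹ *
              ((x : Equiv.Perm GolayPt) * b * (x : Equiv.Perm GolayPt)⁻¹)
            = (x : Equiv.Perm GolayPt) * (b * b) * (x : Equiv.Perm GolayPt)⁻¹ := by group
          _ = 1 := by rw [hb.2.2]; group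
    have hbinv : b⁻¹ = b := inv_eq_of_mul_eq_one_right hb.2.2
    show (x : Equiv.Perm GolayPt) * b * (x : Equiv.Perm GolayPt)⁻¹ * b⁻¹ ∈ baseSq
    rw [hbinv]
    exact baseSq_mul hb' hb
  · have h2 : D.InE (β * x⁻¹ * β⁻¹) := D.inE_conj hβ (D.inE_inv hx)
    have h3 := D.inE_mul hx h2
    rwa [← mul_assoc, ← mul_assoc] at h3

/-- every translation of the first sextet occurs in the core -/
theorem inJ_all (hE : ∃ a ∈ D.E₀, ∃ b ∈ D.E₀, a * b ≠ b * a) : ∀ j < 64, D.InJ j := by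
  obtain ⟨σ, hσ1, hσ, hσE⟩ := D.exists_nontrivial_translation hE
  obtain ⟨a, ha, hra⟩ := baseSq_rep hσ
  obtain ⟨j0, hj0, rfl⟩ := exists_index ha
  obtain ⟨hroot, hdown, hcov⟩ := down_check
  simp only [List.all_eq_true, List.mem_range, Bool.or_eq_true, Bool.and_eq_true,
    List.any_eq_true, Nat.beq_eq, Nat.blt_eq] at hdown hcov
  obtain ⟨i0, hi0, hij⟩ : ∃ i < downTbl.length, (row downTbl i).1 = j0 := by
    rcases hcov j0 hj0 with h | h
    · exact absurd (Subtype.ext (eq_one_of_oneOK hra h)) hσ1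
    · exact h
  have key : ∀ i, i < downTbl.length → D.InJ (row downTbl i).1 → D.InJ (row downTbl 0).1 := by
    intro i
    induction i using Nat.strong_induction_on with
    | _ i ih =>
      intro hi hin
      obtain ⟨hlt, h⟩ := hdown i hi
      rcases h with rfl | ⟨⟨hn, hg⟩, h⟩
      · exact hin
      refine ih _ hn (hn.trans hi) ?_
      obtain ⟨g, hgr, hgc⟩ := D.exists_sEl hg
      obtain ⟨α, -, hα, -⟩ := tEl_rep hlt
      obtain ⟨hnlt, -⟩ := hdown _ (hn.trans hi)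
      obtain ⟨ν, -, hν, -⟩ := tEl_rep hnlt
      refine D.inJ_of hν ?_
      rcases Bool.eq_false_or_eq_true (Nat.beq (row downTbl i).2.1 0) with hm | hm
      · rw [hm, cond_true] at h
        have e := eq_of_conjOK hgr hα hν h
        have e' : ν = g * α * g⁻¹ := Subtype.ext (by
          simp only [Subgroup.coe_mul, InvMemClass.coe_inv]; rw [e, mul_inv_cancel_right])
        rw [e']; exact D.inE_conj hgc (hin α hα)
      · rw [hm, cond_false, List.any_eq_true] at h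
        obtain ⟨x, hx, h⟩ := h
        simp only [List.mem_range, Bool.and_eq_true] at hx h
        obtain ⟨ξ, -, hξ, -⟩ := tEl_rep hx
        have e := eq_of_conjOK hgr hα hξ h.1
        have e' : ξ = g * α * g⁻¹ := Subtype.ext (by
          simp only [Subgroup.coe_mul, InvMemClass.coe_inv]; rw [e, mul_inv_cancel_right])
        have e2 : α * ξ = ν := Subtype.ext (eq_of_mulOK hα hξ hν h.2)
        rw [← e2, e']
        exact D.inE_mul (hin α hα) (D.inE_conj hgc (hin α hα))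
  have hr0 : D.InJ (row upTbl 0).1 := by
    rw [← Nat.eq_of_beq_eq_true hroot]; exact key i0 hi0 (hij ▸ D.inJ_of hra hσE)
  obtain ⟨hup, hcovu⟩ := up_check
  simp only [List.all_eq_true, List.mem_range, Bool.or_eq_true, Bool.and_eq_true,
    List.any_eq_true, Nat.beq_eq, Nat.blt_eq] at hup hcovu
  have kup : ∀ i, i < upTbl.length → D.InJ (row upTbl i).1 := by
    intro i
    induction i using Nat.strong_induction_on with
    | _ i ih =>
      intro hi
      obtain ⟨hlt, h⟩ := hup i hi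
      rcases h with rfl | h
      · exact hr0
      obtain ⟨α, -, hα, -⟩ := tEl_rep hlt
      refine D.inJ_of hα ?_
      rcases Bool.eq_false_or_eq_true (Nat.beq (row upTbl i).2.1 0) with hm | hm
      · rw [hm, cond_true] at h
        simp only [Bool.and_eq_true, Nat.blt_eq] at h
        obtain ⟨⟨hn, hg⟩, h⟩ := h
        obtain ⟨g, hgr, hgc⟩ := D.exists_sEl hg
        obtain ⟨hnlt, -⟩ := hup _ (hn.trans hi)
        obtain ⟨ν, -, hν, -⟩ := tEl_rep hnlt
        have e := eq_of_conjOK hgr hν hα h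
        have e' : α = g * ν * g⁻¹ := Subtype.ext (by
          simp only [Subgroup.coe_mul, InvMemClass.coe_inv]; rw [e, mul_inv_cancel_right])
        rw [e']; exact D.inE_conj hgc (ih _ hn (hn.trans hi) ν hν)
      · rw [hm, cond_false] at h
        simp only [Bool.and_eq_true, Nat.blt_eq] at h
        obtain ⟨⟨hn1, hn2⟩, h⟩ := h
        obtain ⟨h1lt, -⟩ := hup _ (hn1.trans hi)
        obtain ⟨h2lt, -⟩ := hup _ (hn2.trans hi)
        obtain ⟨ν, -, hν, -⟩ := tEl_rep h1lt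
        obtain ⟨μ, -, hμ, -⟩ := tEl_rep h2lt
        have e : ν * μ = α := Subtype.ext (eq_of_mulOK hν hμ hα h)
        rw [← e]
        exact D.inE_mul (ih _ hn1 (hn1.trans hi) ν hν) (ih _ hn2 (hn2.trans hi) μ hμ)
  intro j hj
  obtain ⟨i, hi, hij⟩ := hcovu j hj
  exact hij ▸ kup i hi

theorem disp_mem (hE : ∃ a ∈ D.E₀, ∃ b ∈ D.E₀, a * b ≠ b * a) {j m : ℕ} (hj : j < 64)
    (hm : Ev m) : D.vm (m ^^^ actP (tEl j) m) ∈ D.E₀ := by
  obtain ⟨σ, -, hr, -⟩ := tEl_rep hj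
  obtain ⟨v, hv, hvE⟩ := D.inJ_all hE j hj σ hr
  have h1 := mul_mem (D.vm_conj_E₀ m hvE) (inv_mem hvE)
  have e : D.vm m * (v * D.L σ) * (D.vm m)⁻¹ * (v * D.L σ)⁻¹ =
      D.vm m * (v * (D.L σ * (D.vm m)⁻¹ * (D.L σ)⁻¹) * v⁻¹) := by group
  rw [e, D.vm_inv, D.L_vm hr hm] at h1
  obtain ⟨a, rfl⟩ := (D.mem_V v).1 hv
  rw [show D.ι a * D.vm (actP (tEl j) m) * (D.ι a)⁻¹ = D.vm (actP (tEl j) m) by
    rw [vm, D.ι_comm, mul_inv_cancel_right], ← D.vm_xor] at h1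
  exact h1

theorem wList_mem (hz : orderOf z = 2) (hE : ∃ a ∈ D.E₀, ∃ b ∈ D.E₀, a * b ≠ b * a) :
    ∀ w ∈ wList, D.vm w ∈ D.E₀ := by
  refine spanList_induction (P := fun w => D.vm w ∈ D.E₀) (by rw [D.vm_zero]; exact one_mem _)
    (fun w hw => ?_) (fun a b ha hb => by rw [D.vm_xor]; exact mul_mem ha hb)
  rcases List.mem_cons.1 hw with rfl | hw
  · exact D.z₀_mem hz
  obtain ⟨p, hp, rfl⟩ := List.mem_map.1 hw
  have h := List.all_eq_true.1 wGens_check.1 p hp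
  simp only [Bool.and_eq_true, Nat.blt_eq, Nat.beq_eq] at h
  exact D.disp_mem hE h.2 (ev_of_check h.1.1 h.1.2)

theorem ev_wList {w : ℕ} (hw : w ∈ wList) : Ev w := by
  refine spanList_induction (P := Ev) ev_zero (fun b hb => ?_) (fun a b ha hb => ha.xor hb) w hw
  rcases List.mem_cons.1 hb with rfl | hb'
  · exact ev_fifteen
  obtain ⟨p, hp, rfl⟩ := List.mem_map.1 hb'
  have h := List.all_eq_true.1 wGens_check.1 p hp
  simp only [Bool.and_eq_true, Nat.blt_eq, Nat.beq_eq] at h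
  obtain ⟨σ, -, hr, -⟩ := tEl_rep h.2
  exact (ev_of_check h.1.1 h.1.2).xor (ev_of_rep hr (ev_of_check h.1.1 h.1.2))

theorem L_cFix_disp (hz : orderOf z = 2) (hE : ∃ a ∈ D.E₀, ∃ b ∈ D.E₀, a * b ≠ b * a)
    {c : M24} (hc : Rep (c : Equiv.Perm GolayPt) cFix) {v : G} (hv : v ∈ D.V) :
    v * (D.L c * v * (D.L c)⁻¹) ∈ D.E₀ := by
  obtain ⟨m, hm, rfl⟩ := D.exists_vm hv
  refine spanList_induction
    (P := fun m => D.vm m * (D.L c * D.vm m * (D.L c)⁻¹) ∈ D.E₀) ?_ (fun b hb => ?_) ?_ m hm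
  · rw [D.vm_zero]; simp
  · have hev : Ev b := by
      have := List.all_eq_true.1 base_check.2.2.2.2.2.2.2 b hb
      simp only [Bool.and_eq_true, Nat.blt_eq, Nat.beq_eq] at this
      exact ev_of_check this.1 this.2
    obtain ⟨-, -, hlen, -, hdisp, -⟩ := cFix_check
    rw [Nat.beq_eq] at hlen
    simp only [List.all_eq_true, Bool.and_eq_true, List.any_eq_true, Nat.beq_eq] at hdisp
    obtain ⟨i, hi, rfl⟩ := List.getElem_of_mem hb
    have hi' : i < cFixW.length := by omega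
    obtain ⟨hin, w, hw, hwe⟩ := hdisp (evBasis[i], cFixW[i])
      (List.mem_iff_getElem.2 ⟨i, by rw [List.length_zip]; omega, List.getElem_zip⟩)
    rw [D.L_vm hc hev, ← D.vm_xor,
      D.vm_eq (hev.xor (ev_of_rep hc hev)) (hwe ▸ ev_wList hw) hin, ← hwe]
    exact D.wList_mem hz hE w hw
  · intro x y hx hy
    rw [D.vm_xor]
    have e : D.vm x * D.vm y * (D.L c * (D.vm x * D.vm y) * (D.L c)⁻¹) =
        D.vm x * (D.vm y * (D.L c * D.vm x * (D.L c)⁻¹)) * (D.L c * D.vm y * (D.L c)⁻¹) := by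
      group
    have hcx : D.L c * D.vm x * (D.L c)⁻¹ ∈ D.V :=
      (Subgroup.mem_normalizer_iff.1 (D.L_mem c) _).1 (D.vm_mem x)
    obtain ⟨a, ha⟩ := (D.mem_V _).1 hcx
    have hsw : D.vm y * (D.L c * D.vm x * (D.L c)⁻¹) = D.L c * D.vm x * (D.L c)⁻¹ * D.vm y := by
      rw [← ha]; exact D.ι_comm _ _
    rw [e, hsw]
    have := mul_mem hx hy
    simpa [mul_assoc] using this

/-- every translation of the first sextet lifts into the core -/
theorem tEl_mem (hz : orderOf z = 2) (hE : ∃ a ∈ D.E₀, ∃ b ∈ D.E₀, a * b ≠ b * a) {j : ℕ}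
    (hj : j < 64) {κ : M24} (hκ : Rep (κ : Equiv.Perm GolayPt) (tEl j)) : D.L κ ∈ D.E₀ := by
  obtain ⟨hcM, hc15, -, -, -, hpre⟩ := cFix_check
  simp only [List.all_eq_true, List.mem_range, Bool.and_eq_true, Nat.blt_eq, Nat.beq_eq] at hpre
  obtain ⟨hplt, hpe⟩ := hpre j hj
  obtain ⟨c', hc', hcr⟩ := exists_rep_M24 hcM
  let c : M24 := ⟨c', hc'⟩
  obtain ⟨x, -, hxr, -⟩ := tEl_rep hplt
  have hrel : x * c = κ * c * x := Subtype.ext ((hxr.mul hcr).inj (by rw [hpe]; exact (hκ.mul hcr).mul hxr))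
  obtain ⟨v, hv, hvE⟩ := D.inJ_all hE _ hplt x hxr
  have hcc : D.L c * D.z₀ = D.z₀ * D.L c := D.L_cent hcr hc15
  have h1 := mul_mem hvE (inv_mem (D.cent_conj hcc hvE))
  have hx' : D.L x * D.L c * (D.L x)⁻¹ = D.L κ * D.L c := by
    rw [← D.L_mul, hrel, D.L_mul, D.L_mul, mul_inv_cancel_right]
  have e : v * D.L x * (D.L c * (v * D.L x) * (D.L c)⁻¹)⁻¹ =
      v * (D.L x * D.L c * (D.L x)⁻¹) * (v⁻¹ * (D.L c)⁻¹) := by group
  rw [e, hx'] at h1
  obtain ⟨a, rfl⟩ := (D.mem_V v).1 hv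
  rw [D.ι_inv] at h1
  -- the vector part lies in the core
  set w := D.L c * D.ι a * (D.L c)⁻¹ with hw
  have hwV : w ∈ D.V := (Subgroup.mem_normalizer_iff.1 (D.L_mem c) _).1 (D.ι_mem a)
  obtain ⟨m, hm, hmw⟩ := D.exists_vm hwV
  have h2 := D.disp_mem hE hj (ev_vList hm)
  rw [D.vm_xor, ← D.L_vm hκ (ev_vList hm), hmw] at h2
  have h3 := D.L_cFix_disp hz hE (c := c) hcr (D.ι_mem a)
  rw [← hw] at h3
  have e2 : D.ι a * (D.L κ * D.L c) * (D.ι a * (D.L c)⁻¹) =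
      D.ι a * (D.L κ * w * (D.L κ)⁻¹) * D.L κ := by rw [hw]; group
  rw [e2] at h1
  have h4 : D.ι a * (D.L κ * w * (D.L κ)⁻¹) ∈ D.E₀ := by
    have := mul_mem h3 h2
    have e3 : D.ι a * w * (w * (D.L κ * w * (D.L κ)⁻¹)) = D.ι a * (w * w) * (D.L κ * w * (D.L κ)⁻¹) := by
      group
    rw [e3] at this
    obtain ⟨b, hb⟩ := (D.mem_V w).1 hwV
    rwa [← hb, ← D.ι_add b b, D.C.two, D.ι_zero, mul_one, hb] at this
  have := mul_mem (inv_mem h4) h1
  rwa [inv_mul_cancel_left] at this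

/-- every involution normalising the elementary abelian subgroup is conjugate into it, given that
the involutions of the 2-core of the centraliser of `z` are -/
theorem exists_conj_mem_of_normalizer (hz : orderOf z = 2)
    (hE : ∃ a ∈ D.E₀, ∃ b ∈ D.E₀, a * b ≠ b * a)
    (hfuse : ∀ x ∈ twoCoreOfCentralizer z, x * x = 1 → ∃ g : G, g * x * g⁻¹ ∈ D.V)
    {u : G} (hu : u ∈ Subgroup.normalizer (D.V : Set G)) (hu2 : u * u = 1) :
    ∃ g : G, g * u * g⁻¹ ∈ D.V := by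
  obtain ⟨v, hv, σ, rfl⟩ := D.decompose hu
  by_cases hσ : σ = 1
  · subst hσ; exact ⟨1, by rw [D.L_one]; simpa using hv⟩
  have hσ2 : σ * σ = 1 := by
    have h1 : D.L σ * D.L σ ∈ D.K ⊓ D.V := by
      refine Subgroup.mem_inf.2 ⟨mul_mem (D.L_mem_K σ) (D.L_mem_K σ), ?_⟩
      have h2 : D.L σ * D.L σ = (D.L σ * v * (D.L σ)⁻¹)⁻¹ * v⁻¹ * (v * D.L σ * (v * D.L σ)) := by
        group
      rw [h2, hu2, mul_one]
      exact mul_mem (inv_mem ((Subgroup.mem_normalizer_iff.1 (D.L_mem σ) v).1 hv)) (inv_mem hv)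
    rw [D.inf, Subgroup.mem_bot, ← D.L_mul, ← D.L_one] at h1
    exact D.L_inj h1
  have ho : orderOf (σ : Equiv.Perm GolayPt) = 2 := by
    rw [Subgroup.orderOf_coe]
    exact orderOf_eq_prime (by rw [pow_two]; exact hσ2) hσ
  -- reduce to a representative
  obtain ⟨c0, hc0, ρ, hρ, hconj, tbl, r, hrr, hfix, htbl⟩ :
      ∃ c0, c0 ∈ M24 ∧ ∃ ρ : Equiv.Perm GolayPt, ρ ∈ M24 ∧
        (σ : Equiv.Perm GolayPt) = c0 * ρ * c0⁻¹ ∧
        ∃ (tbl : List (ℕ × ℕ × ℕ × ℕ × ℕ)) (r : ℕ), Rep ρ r ∧ fixedReps r = tbl.map (fun e : ℕ × ℕ × ℕ × ℕ × ℕ => e.1) ∧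
          tbl.all (covOK r) = true := by
    rcases exists_invol σ.2 ho with ⟨ρ, hρ, hr, -, c, hc, e⟩ | ⟨ρ, hρ, hr, -, c, hc, e⟩
    · exact ⟨c, hc, ρ, hρ, e, covA, syl2Rep0, hr, cov_check.2.1, cov_check.2.2.1⟩
    · exact ⟨c, hc, ρ, hρ, e, covB, syl2Rep1, hr, cov_check.2.2.2.1, cov_check.2.2.2.2⟩
  let γ : M24 := ⟨c0, hc0⟩
  let P : M24 := ⟨ρ, hρ⟩
  have hσP : D.L σ = D.L γ * D.L P * (D.L γ)⁻¹ := by
    rw [← D.L_inv, ← D.L_mul, ← D.L_mul]
    exact congrArg D.L (Subtype.ext hconj)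
  set v' := (D.L γ)⁻¹ * v * D.L γ with hv'
  have hv'V : v' ∈ D.V := by
    have := (Subgroup.mem_normalizer_iff.1 (inv_mem (D.L_mem γ)) v).1 hv
    rwa [inv_inv] at this
  have hu' : (D.L γ)⁻¹ * (v * D.L σ) * D.L γ = v' * D.L P := by
    rw [hσP, hv']; group
  obtain ⟨m0, hm0, hm0e⟩ := D.exists_vm hv'V
  have hsq : (v' * D.L P) * (v' * D.L P) = 1 := by
    rw [← hu']
    calc (D.L γ)⁻¹ * (v * D.L σ) * D.L γ * ((D.L γ)⁻¹ * (v * D.L σ) * D.L γ)
        = (D.L γ)⁻¹ * ((v * D.L σ) * (v * D.L σ)) * D.L γ := by group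
      _ = 1 := by rw [hu2]; group
  have hP2 : D.L P * D.L P = 1 := by
    have h : D.L σ * D.L σ = 1 := by rw [← D.L_mul, hσ2, D.L_one]
    rw [hσP] at h
    calc D.L P * D.L P = (D.L γ)⁻¹ * (D.L γ * D.L P * (D.L γ)⁻¹ * (D.L γ * D.L P * (D.L γ)⁻¹)) *
          D.L γ := by group
      _ = 1 := by rw [h]; group
  have hfixed : inCode (m0 ^^^ actP r m0) = true := by
    refine D.inCode_of_vm_eq_one ((ev_vList hm0).xor (ev_of_rep hrr (ev_vList hm0))) ?_
    rw [D.vm_xor, ← D.L_vm (σ := P) hrr (ev_vList hm0), hm0e]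
    calc v' * (D.L P * v' * (D.L P)⁻¹) = (v' * D.L P) * (v' * D.L P) * (D.L P * D.L P)⁻¹ := by
          group
      _ = 1 := by rw [hsq, hP2]; simp
  have hmem : m0 ∈ fixedReps r := List.mem_filter.2 ⟨hm0, hfixed⟩
  rw [hfix, List.mem_map] at hmem
  obtain ⟨⟨v0, ci, j, w, m⟩, hmemt, rfl⟩ := hmem
  have hok := List.all_eq_true.1 htbl _ hmemt
  simp only [covOK, Bool.and_eq_true, Nat.blt_eq, List.any_eq_true, Nat.beq_eq] at hok
  obtain ⟨⟨⟨⟨⟨⟨hj, hci⟩, w', hw', hww⟩, hmlt⟩, hmev⟩, hcj⟩, hcode⟩ := hok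
  subst hww
  obtain ⟨c', hc', hcr⟩ := exists_rep_M24 (List.all_eq_true.1 cov_check.1 (cEl ci) (by
    rw [cEl, List.getD_eq_getElem _ _ hci]; exact List.getElem_mem _))
  let c : M24 := ⟨c', hc'⟩
  obtain ⟨κ, -, hκ, -⟩ := tEl_rep hj
  have hrel : c * P = κ * c := Subtype.ext (eq_of_conjOK hcr hrr hκ hcj)
  have hκP : D.L c * D.L P * (D.L c)⁻¹ = D.L κ := by
    rw [← D.L_mul, hrel, D.L_mul, mul_inv_cancel_right]
  have he0 := ev_vList hm0
  have hem : Ev m := ev_of_check hmlt hmev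
  have hew := ev_wList hw'
  have hcv : D.L c * v' * (D.L c)⁻¹ = D.vm w' * (D.vm m * (D.L κ * D.vm m * (D.L κ)⁻¹)) := by
    rw [← hm0e, D.L_vm hcr he0, D.L_vm hκ hem, ← D.vm_xor, ← D.vm_xor]
    refine D.vm_eq (ev_of_rep hcr he0) (hew.xor (hem.xor (ev_of_rep hκ hem))) ?_
    rwa [← Nat.xor_assoc]
  set g := D.vm m * D.L c * (D.L γ)⁻¹ with hg
  have hgu : g * (v * D.L σ) * g⁻¹ = D.vm w' * D.L κ := by
    have hcomm : D.vm m * D.vm w' = D.vm w' * D.vm m := D.vm_comm _ _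
    calc g * (v * D.L σ) * g⁻¹
        = D.vm m * (D.L c * ((D.L γ)⁻¹ * (v * D.L σ) * D.L γ) * (D.L c)⁻¹) * (D.vm m)⁻¹ := by
          rw [hg]; group
      _ = D.vm m * ((D.L c * v' * (D.L c)⁻¹) * (D.L c * D.L P * (D.L c)⁻¹)) * (D.vm m)⁻¹ := by
          rw [hu']; group
      _ = (D.vm m * D.vm w') * D.vm m * (D.L κ * D.vm m * (D.L κ)⁻¹) * D.L κ * (D.vm m)⁻¹ := by
          rw [hcv, hκP]; group
      _ = D.vm w' * (D.vm m * D.vm m) * D.L κ * (D.vm m * (D.vm m)⁻¹) := by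
          rw [hcomm]; group
      _ = D.vm w' * D.L κ := by rw [D.vm_sq, mul_inv_cancel, mul_one, mul_one]
  have hin : D.vm w' * D.L κ ∈ D.E₀ :=
    mul_mem (D.wList_mem hz hE _ hw') (D.tEl_mem hz hE hj hκ)
  rw [D.mem_E₀, ← hgu] at hin
  obtain ⟨g', hg'⟩ := hfuse _ hin (by
    calc D.g₀⁻¹ * (g * (v * D.L σ) * g⁻¹) * D.g₀ * (D.g₀⁻¹ * (g * (v * D.L σ) * g⁻¹) * D.g₀)
        = D.g₀⁻¹ * (g * ((v * D.L σ) * (v * D.L σ)) * g⁻¹) * D.g₀ := by group
      _ = 1 := by rw [hu2]; group)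
  refine ⟨g' * D.g₀⁻¹ * g, ?_⟩
  rwa [show g' * D.g₀⁻¹ * g * (v * D.L σ) * (g' * D.g₀⁻¹ * g)⁻¹ =
    g' * (D.g₀⁻¹ * (g * (v * D.L σ) * g⁻¹) * D.g₀) * g'⁻¹ by group]

/-- every involution is conjugate into the elementary abelian subgroup -/
theorem exists_conj_mem (hz : orderOf z = 2) (hE : ∃ a ∈ D.E₀, ∃ b ∈ D.E₀, a * b ≠ b * a)
    (hfuse : ∀ x ∈ twoCoreOfCentralizer z, x * x = 1 → ∃ g : G, g * x * g⁻¹ ∈ D.V)
    {u : G} (hu2 : u * u = 1) : ∃ g : G, g * u * g⁻¹ ∈ D.V := by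
  obtain ⟨T0, hT0⟩ := D.isPGroup_V.exists_le_sylow
  have hp : IsPGroup 2 (Subgroup.zpowers u) := by
    rintro ⟨x, hx⟩
    refine ⟨1, Subtype.ext ?_⟩
    obtain ⟨k, rfl⟩ := Subgroup.mem_zpowers_iff.1 hx
    show (u ^ k) ^ (2 ^ 1) = 1
    rw [pow_one, pow_two, ← (Commute.refl u).mul_zpow, hu2, one_zpow]
  obtain ⟨T, hT⟩ := hp.exists_le_sylow
  obtain ⟨g, hg⟩ := MulAction.exists_smul_eq G T T0
  have hu' : g * u * g⁻¹ ∈ (T0 : Subgroup G) := by
    rw [← hg, Sylow.coe_subgroup_smul]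
    exact ⟨u, hT (Subgroup.mem_zpowers u), rfl⟩
  have hn : g * u * g⁻¹ ∈ Subgroup.normalizer (D.V : Set G) := by
    refine D.mem_normalizer_of_map (D.eq_conj_of_le T0 _ hT0 ?_)
    intro y hy
    obtain ⟨v, hv, rfl⟩ := Subgroup.mem_map.1 hy
    exact mul_mem (mul_mem hu' (hT0 hv)) (inv_mem hu')
  obtain ⟨g', hg'⟩ := D.exists_conj_mem_of_normalizer hz hE hfuse hn (by
    calc g * u * g⁻¹ * (g * u * g⁻¹) = g * (u * u) * g⁻¹ := by group
      _ = 1 := by rw [hu2]; group)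
  exact ⟨g' * g, by rwa [show g' * g * u * (g' * g)⁻¹ = g' * (g * u * g⁻¹) * g'⁻¹ by group]⟩

end Eleven

end CfsgLib.Spor.JankoFourCentral
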