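import Cfsg.Agent.Lib.Spor.JankoFourCentral.Local
import Cfsg.Agent.Lib.Involutions.StrongEmb

/-!
A group of Janko-four type is generated by the normaliser of the elementary abelian subgroup of
order `2^11` and the centraliser of one of its vectors conjugate to `z`.
-/

set_option autoImplicit false
set_option maxRecDepth 100000

namespace CfsgLib.Spor.JankoFourCentral

open Cfsg CfsgLib.Spor CfsgLib.Base
open scoped Pointwise symmDiff Matrix

namespace Eleven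

variable {G : Type*} [Group G] [Finite G] {z : G} {A : Type*} [AddCommGroup A] (D : Eleven z A)

/-- an involution of the normaliser is in the subgroup or moved into the core by the normaliser -/
theorem mem_or_exists_core (hz : orderOf z = 2)
    (hE : ∃ a ∈ D.E₀, ∃ b ∈ D.E₀, a * b ≠ b * a)
    {u : G} (hu : u ∈ Subgroup.normalizer (D.V : Set G)) (hu2 : u * u = 1) :
    u ∈ D.V ∨ ∃ g ∈ Subgroup.normalizer (D.V : Set G), g * u * g⁻¹ ∈ D.E₀ := by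
  obtain ⟨v, hv, σ, rfl⟩ := D.decompose hu
  by_cases hσ : σ = 1
  · subst hσ; exact Or.inl (by rw [D.L_one, mul_one]; exact hv)
  have hσ2 : σ * σ = 1 := by
    have h1 : D.L σ * D.L σ ∈ D.K ⊓ D.V := by
      refine Subgroup.mem_inf.2 ⟨mul_mem (D.L_mem_K σ) (D.L_mem_K σ), ?_⟩
      have h2 : D.L σ * D.L σ = (D.L σ * v * (D.L σ)⁻¹)⁻¹ * v⁻¹ * (v * D.L σ * (v * D.L σ)) := by
        group
      rw [h2, hu2, mul_one]
      exact mul_mem (inv_mem ((Subgroup.mem_normalizer_iff.1 (D.L_mem σ) v).1 hv)) (inv_mem hv)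
    rw [D.inf, Subgroup.mem_bot, ← D.L_mul, ← D.L_one] at h1
    exact D.L_inj h1
  have ho : orderOf (σ : Equiv.Perm GolayPt) = 2 := by
    rw [Subgroup.orderOf_coe]
    exact orderOf_eq_prime (by rw [pow_two]; exact hσ2) hσ
  -- reduce to a representative
  obtain ⟨c0, hc0, ρ, hρ, hconj, tbl, r, hrr, hfix, htbl⟩ :
      ∃ c0, c0 ∈ M24 ∧ ∃ ρ : Equiv.Perm GolayPt, ρ ∈ M24 ∧
        (σ : Equiv.Perm GolayPt) = c0 * ρ * c0⁻¹ ∧
        ∃ (tbl : List (ℕ × ℕ × ℕ × ℕ × ℕ)) (r : ℕ), Rep ρ r ∧ fixedReps r = tbl.map (fun e : ℕ × ℕ × ℕ × ℕ × ℕ => e.1) ∧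
          tbl.all (covOK r) = true := by
    rcases exists_invol σ.2 ho with ⟨ρ, hρ, hr, -, c, hc, e⟩ | ⟨ρ, hρ, hr, -, c, hc, e⟩
    · exact ⟨c, hc, ρ, hρ, e, covA, syl2Rep0, hr, cov_check.2.1, cov_check.2.2.1⟩
    · exact ⟨c, hc, ρ, hρ, e, covB, syl2Rep1, hr, cov_check.2.2.2.1, cov_check.2.2.2.2⟩
  let γ : M24 := ⟨c0, hc0⟩
  let P : M24 := ⟨ρ, hρ⟩
  have hσP : D.L σ = D.L γ * D.L P * (D.L γ)⁻¹ := by
    rw [← D.L_inv, ← D.L_mul, ← D.L_mul]
    exact congrArg D.L (Subtype.ext hconj)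
  set v' := (D.L γ)⁻¹ * v * D.L γ with hv'
  have hv'V : v' ∈ D.V := by
    have := (Subgroup.mem_normalizer_iff.1 (inv_mem (D.L_mem γ)) v).1 hv
    rwa [inv_inv] at this
  have hu' : (D.L γ)⁻¹ * (v * D.L σ) * D.L γ = v' * D.L P := by
    rw [hσP, hv']; group
  obtain ⟨m0, hm0, hm0e⟩ := D.exists_vm hv'V
  have hsq : (v' * D.L P) * (v' * D.L P) = 1 := by
    rw [← hu']
    calc (D.L γ)⁻¹ * (v * D.L σ) * D.L γ * ((D.L γ)⁻¹ * (v * D.L σ) * D.L γ)
        = (D.L γ)⁻¹ * ((v * D.L σ) * (v * D.L σ)) * D.L γ := by group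
      _ = 1 := by rw [hu2]; group
  have hP2 : D.L P * D.L P = 1 := by
    have h : D.L σ * D.L σ = 1 := by rw [← D.L_mul, hσ2, D.L_one]
    rw [hσP] at h
    calc D.L P * D.L P = (D.L γ)⁻¹ * (D.L γ * D.L P * (D.L γ)⁻¹ * (D.L γ * D.L P * (D.L γ)⁻¹)) *
          D.L γ := by group
      _ = 1 := by rw [h]; group
  have hfixed : inCode (m0 ^^^ actP r m0) = true := by
    refine D.inCode_of_vm_eq_one ((ev_vList hm0).xor (ev_of_rep hrr (ev_vList hm0))) ?_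
    rw [D.vm_xor, ← D.L_vm (σ := P) hrr (ev_vList hm0), hm0e]
    calc v' * (D.L P * v' * (D.L P)⁻¹) = (v' * D.L P) * (v' * D.L P) * (D.L P * D.L P)⁻¹ := by
          group
      _ = 1 := by rw [hsq, hP2]; simp
  have hmem : m0 ∈ fixedReps r := List.mem_filter.2 ⟨hm0, hfixed⟩
  rw [hfix, List.mem_map] at hmem
  obtain ⟨⟨v0, ci, j, w, m⟩, hmemt, rfl⟩ := hmem
  have hok := List.all_eq_true.1 htbl _ hmemt
  simp only [covOK, Bool.and_eq_true, Nat.blt_eq, List.any_eq_true, Nat.beq_eq] at hok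
  obtain ⟨⟨⟨⟨⟨⟨hj, hci⟩, w', hw', hww⟩, hmlt⟩, hmev⟩, hcj⟩, hcode⟩ := hok
  subst hww
  obtain ⟨c', hc', hcr⟩ := exists_rep_M24 (List.all_eq_true.1 cov_check.1 (cEl ci) (by
    rw [cEl, List.getD_eq_getElem _ _ hci]; exact List.getElem_mem _))
  let c : M24 := ⟨c', hc'⟩
  obtain ⟨κ, -, hκ, -⟩ := tEl_rep hj
  have hrel : c * P = κ * c := Subtype.ext (eq_of_conjOK hcr hrr hκ hcj)
  have hκP : D.L c * D.L P * (D.L c)⁻¹ = D.L κ := by
    rw [← D.L_mul, hrel, D.L_mul, mul_inv_cancel_right]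
  have he0 := ev_vList hm0
  have hem : Ev m := ev_of_check hmlt hmev
  have hew := ev_wList hw'
  have hcv : D.L c * v' * (D.L c)⁻¹ = D.vm w' * (D.vm m * (D.L κ * D.vm m * (D.L κ)⁻¹)) := by
    rw [← hm0e, D.L_vm hcr he0, D.L_vm hκ hem, ← D.vm_xor, ← D.vm_xor]
    refine D.vm_eq (ev_of_rep hcr he0) (hew.xor (hem.xor (ev_of_rep hκ hem))) ?_
    rwa [← Nat.xor_assoc]
  set g := D.vm m * D.L c * (D.L γ)⁻¹ with hg
  have hgu : g * (v * D.L σ) * g⁻¹ = D.vm w' * D.L κ := by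
    have hcomm : D.vm m * D.vm w' = D.vm w' * D.vm m := D.vm_comm _ _
    calc g * (v * D.L σ) * g⁻¹
        = D.vm m * (D.L c * ((D.L γ)⁻¹ * (v * D.L σ) * D.L γ) * (D.L c)⁻¹) * (D.vm m)⁻¹ := by
          rw [hg]; group
      _ = D.vm m * ((D.L c * v' * (D.L c)⁻¹) * (D.L c * D.L P * (D.L c)⁻¹)) * (D.vm m)⁻¹ := by
          rw [hu']; group
      _ = (D.vm m * D.vm w') * D.vm m * (D.L κ * D.vm m * (D.L κ)⁻¹) * D.L κ * (D.vm m)⁻¹ := by
          rw [hcv, hκP]; group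
      _ = D.vm w' * (D.vm m * D.vm m) * D.L κ * (D.vm m * (D.vm m)⁻¹) := by
          rw [hcomm]; group
      _ = D.vm w' * D.L κ := by rw [D.vm_sq, mul_inv_cancel, mul_one, mul_one]
  have hin : D.vm w' * D.L κ ∈ D.E₀ :=
    mul_mem (D.wList_mem hz hE _ hw') (D.tEl_mem hz hE hj hκ)
  refine Or.inr ⟨g, ?_, hgu ▸ hin⟩
  exact mul_mem (mul_mem (Subgroup.le_normalizer (D.vm_mem m)) (D.L_mem c)) (inv_mem (D.L_mem γ))

/-- involutions of the core move into the subgroup inside the centraliser of `z` -/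
theorem core_fusion_cent (hJ : Cfsg.IsOfJankoFourTypeAt z) :
    ∀ x ∈ twoCoreOfCentralizer z, x * x = 1 →
      ∃ p : G, p * z = z * p ∧ D.g₀ * p * x * (D.g₀ * p)⁻¹ ∈ D.V := by
  have hz : orderOf z = 2 := hJ.choose_spec.1
  have hE := D.E₀_nonabelian hJ
  obtain ⟨P, hP⟩ := hJ
  obtain ⟨M⟩ := LargeFi.J4.model_of_type hP
  have hw := witness_check
  simp only [Bool.and_eq_true, List.any_eq_true, Nat.beq_eq, Bool.not_eq_true'] at hw
  obtain ⟨⟨⟨⟨⟨⟨w, hw1, rfl⟩, w', hw2, rfl⟩, hp1⟩, hp2⟩, hc1⟩, hc2⟩ := hw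
  have hev1 : Ev 1056768 := ev_of_check (by norm_num) (by rw [hp1])
  have hev2 : Ev 2563 := ev_of_check (by norm_num) (by rw [hp2])
  -- the duad vector and the tetrad vector
  set d := D.C.S (toSet 1056768) with hd
  set q := D.C.S (toSet 2563) with hq
  have hdd : d ∈ D.C.duads := D.C.mem_duads_iff.2 ⟨_, by rw [card_toSet, hp1], rfl⟩
  obtain ⟨hq0, hqd⟩ := D.C.tetrad_not_duad (s := toSet 2563) (by rw [card_toSet, hp2])
  have hd0 : d ≠ 0 := by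
    intro h
    have h1 : D.C.S (toSet 1056768) = D.C.S (∅ : Finset GolayPt) := h
    have := D.C.S_inj (by simp [card_toSet, hp1]) (by simp [card_toSet, hp1]) h1
    have h2 := congrArg Finset.card this
    rw [card_toSet, hp1] at h2
    simp at h2
  have hnd : ¬ IsConj z (D.vm 1056768) := (D.duad d hd0).1 hdd
  have hzq : IsConj z (D.vm 2563) := by
    by_contra h
    exact hqd ((D.duad q hq0).2 h)
  have hmd : D.vm 1056768 ∈ D.E₀ := D.wList_mem hz hE _ hw1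
  have hmq : D.vm 2563 ∈ D.E₀ := by
    rw [← D.vm_eq (ev_wList hw2) hev2 hc1]; exact D.wList_mem hz hE _ hw2
  have hne : D.vm 2563 ≠ D.vm 15 := by
    intro h
    have h1 : D.vm (2563 ^^^ 15) = 1 := by rw [D.vm_xor, h, D.vm_sq]
    have h2 : inCode (2563 ^^^ 15) = true := D.inCode_of_vm_eq_one (hev2.xor ev_fifteen) h1
    exact Bool.false_ne_true (hc2.symm.trans h2)
  -- pull back into the centraliser of `z`
  obtain ⟨a, ha, hae⟩ := Subgroup.mem_map.1 (D.mem_E₀.1 hmd)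
  obtain ⟨b, hb, hbe⟩ := Subgroup.mem_map.1 (D.mem_E₀.1 hmq)
  change (a : G) = _ at hae
  change (b : G) = _ at hbe
  have hback : ∀ {y : G} (c : ↥(Subgroup.centralizer ({z} : Set G))),
      (c : G) = D.g₀⁻¹ * y * D.g₀ → IsConj y (c : G) := fun c h =>
    isConj_iff.2 ⟨D.g₀⁻¹, by rw [h, inv_inv]⟩
  have ha1 : a ≠ 1 := by
    intro h
    rw [h, OneMemClass.coe_one] at hae
    refine hd0 (D.ι_inj (Eq.trans ?_ D.ι_zero.symm))
    calc D.ι d = D.g₀ * (D.g₀⁻¹ * D.vm 1056768 * D.g₀) * D.g₀⁻¹ := by rw [hd]; simp [vm, mul_assoc]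
      _ = 1 := by rw [← hae]; simp
  have haz : a ≠ LargeFi.zH z := by
    intro h
    have h' : (a : G) = z := congrArg Subtype.val h
    refine hnd ?_
    have := (hback a hae).symm
    rwa [h'] at this
  have hb1 : b ≠ 1 := by
    intro h
    rw [h, OneMemClass.coe_one] at hbe
    refine hq0 (D.ι_inj (Eq.trans ?_ D.ι_zero.symm))
    calc D.ι q = D.g₀ * (D.g₀⁻¹ * D.vm 2563 * D.g₀) * D.g₀⁻¹ := by rw [hq]; simp [vm, mul_assoc]
      _ = 1 := by rw [← hbe]; simp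
  have hbz : b ≠ LargeFi.zH z := by
    intro h
    refine hne ?_
    have h' : D.g₀⁻¹ * D.vm 2563 * D.g₀ = z := by rw [← hbe, h]; rfl
    have e : D.g₀ * (D.g₀⁻¹ * D.vm 2563 * D.g₀) * D.g₀⁻¹ = D.vm 2563 := by group
    rw [h', D.g₀_conj] at e
    exact e.symm
  have hsq : ∀ {m : ℕ} (c : ↥(Subgroup.centralizer ({z} : Set G))),
      (c : G) = D.g₀⁻¹ * D.vm m * D.g₀ → c * c = 1 := by
    intro m c h
    apply Subtype.ext
    show (c : G) * c = 1
    rw [h]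
    calc D.g₀⁻¹ * D.vm m * D.g₀ * (D.g₀⁻¹ * D.vm m * D.g₀)
        = D.g₀⁻¹ * (D.vm m * D.vm m) * D.g₀ := by group
      _ = 1 := by rw [D.vm_sq]; group
  have hnab : ∀ p : ↥(Subgroup.centralizer ({z} : Set G)), p * a * p⁻¹ ≠ b := by
    intro p h
    have h' : IsConj (a : G) (b : G) := isConj_iff.2 ⟨p, congrArg Subtype.val h⟩
    exact hnd (((hzq.trans (hback b hbe)).trans h'.symm).trans (hback a hae).symm)
  intro x hx hx2
  obtain ⟨c, hc, rfl⟩ := Subgroup.mem_map.1 hx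
  have hc2 : c * c = 1 := Subtype.ext hx2
  show ∃ p : G, p * z = z * p ∧ D.g₀ * p * (c : G) * (D.g₀ * p)⁻¹ ∈ D.V
  by_cases hc1 : c = 1
  · exact ⟨1, by simp, by simp [hc1]⟩
  by_cases hcz : c = LargeFi.zH z
  · refine ⟨1, by simp, ?_⟩
    rw [mul_one, show (c : G) = z from congrArg Subtype.val hcz, D.g₀_conj]
    exact D.vm_mem 15
  have push : ∀ {m : ℕ} (e : ↥(Subgroup.centralizer ({z} : Set G))),
      (e : G) = D.g₀⁻¹ * D.vm m * D.g₀ → (∃ p, p * c * p⁻¹ = e) →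
      ∃ p : G, p * z = z * p ∧ D.g₀ * p * (c : G) * (D.g₀ * p)⁻¹ ∈ D.V := by
    rintro m e he ⟨p, hp⟩
    refine ⟨p, Subgroup.mem_centralizer_singleton_iff.1 p.2, ?_⟩
    have h1 : (p : G) * c * (p : G)⁻¹ = D.g₀⁻¹ * D.vm m * D.g₀ :=
      (congrArg Subtype.val hp).trans he
    rw [show D.g₀ * p * (c : G) * (D.g₀ * p)⁻¹ = D.g₀ * (p * c * (p : G)⁻¹) * D.g₀⁻¹ by group, h1]
    rw [show D.g₀ * (D.g₀⁻¹ * D.vm m * D.g₀) * D.g₀⁻¹ = D.vm m by group]
    exact D.vm_mem m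
  rcases two_classes M (a := ⟨a, ha⟩) (b := ⟨b, hb⟩) (c := ⟨c, hc⟩) (hsq a hae) ha1 haz
    (hsq b hbe) hb1 hbz hc2 hc1 hcz hnab with h | h
  · exact push a hae h
  · exact push b hbe h

/-- the normaliser moves vectors conjugate to `z` transitively -/
theorem exists_move_mem {a b : G} (ha : a ∈ D.V) (hb : b ∈ D.V) (ha1 : a ≠ 1) (hb1 : b ≠ 1)
    (h : IsConj z a ↔ IsConj z b) :
    ∃ n ∈ Subgroup.normalizer (D.V : Set G), n * a * n⁻¹ = b := by
  obtain ⟨x, rfl⟩ := (D.mem_V a).1 ha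
  obtain ⟨y, rfl⟩ := (D.mem_V b).1 hb
  have hx : x ≠ 0 := fun e => ha1 (by rw [e, D.ι_zero])
  have hy : y ≠ 0 := fun e => hb1 (by rw [e, D.ι_zero])
  have hiff : x ∈ D.C.duads ↔ y ∈ D.C.duads := by rw [D.duad x hx, D.duad y hy, h]
  obtain ⟨k, hk⟩ : ∃ k, D.act k x = y := by
    by_cases hd : x ∈ D.C.duads
    · exact D.acts.trans_duads hd (hiff.1 hd)
    · exact D.acts.trans_rest hx hd hy fun h' => hd (hiff.2 h')
  exact ⟨k, D.K_le k.2, by rw [← D.ι_act, hk]⟩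

/-- the normaliser of the subgroup and one centraliser generate -/
theorem eq_top (hJ : Cfsg.IsOfJankoFourTypeAt z) (J : Subgroup G)
    (hN : Subgroup.normalizer (D.V : Set G) ≤ J) {u : G} (hu : u ∈ D.V) (huz : IsConj z u)
    (hC : Subgroup.centralizer ({u} : Set G) ≤ J) : J = ⊤ := by
  have hz : orderOf z = 2 := hJ.choose_spec.1
  have hE := D.E₀_nonabelian hJ
  have hVJ : D.V ≤ J := Subgroup.le_normalizer.trans hN
  have hu1 := isConj_ne_one hJ huz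
  -- the centralisers of all nontrivial vectors
  have hcentV : ∀ v ∈ D.V, v ≠ 1 → Subgroup.centralizer ({v} : Set G) ≤ J := by
    intro v hv hv1
    by_cases hvz : IsConj z v
    · obtain ⟨n, hn, hnv⟩ := D.exists_move_mem hv hu hv1 hu1 (iff_of_true hvz huz)
      intro c hc
      rw [Subgroup.mem_centralizer_singleton_iff] at hc
      have h1 := comm_conj (g := n) hc
      rw [hnv] at h1
      have h2 := hC (Subgroup.mem_centralizer_singleton_iff.2 h1)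
      have := mul_mem (mul_mem (inv_mem (hN hn)) h2) (hN hn)
      rwa [show n⁻¹ * (n * c * n⁻¹) * n = c by group] at this
    · exact (D.cent_le hJ v hv hv1 hvz).trans hN
  have hz₀1 : D.z₀ ≠ 1 := isConj_ne_one hJ D.isConj_z₀
  have hC₀ := hcentV D.z₀ (D.vm_mem 15) hz₀1
  -- involutions of `J` move into the subgroup inside `J`
  have hinto : ∀ s ∈ J, s * s = 1 → ∃ j ∈ J, j * s * j⁻¹ ∈ D.V := by
    intro s hs hs2
    obtain ⟨T₀, hT₀⟩ := D.isPGroup_V.exists_le_sylow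
    have hT₀N : (T₀ : Subgroup G) ≤ Subgroup.normalizer (D.V : Set G) := fun x hx =>
      D.mem_normalizer_of_map (D.eq_conj_of_le T₀ x hT₀ (by
        rintro _ ⟨v, hv, rfl⟩
        exact mul_mem (mul_mem hx (hT₀ hv)) (inv_mem hx)))
    have hp : IsPGroup 2 (Subgroup.zpowers (⟨s, hs⟩ : J)) := by
      rintro ⟨x, hx⟩
      refine ⟨1, Subtype.ext ?_⟩
      obtain ⟨k, rfl⟩ := Subgroup.mem_zpowers_iff.1 hx
      show ((⟨s, hs⟩ : J) ^ k) ^ (2 ^ 1) = 1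
      rw [pow_one, pow_two, ← (Commute.refl (⟨s, hs⟩ : J)).mul_zpow,
        show (⟨s, hs⟩ : J) * ⟨s, hs⟩ = 1 from Subtype.ext hs2, one_zpow]
    obtain ⟨T, hT⟩ := hp.exists_le_sylow
    obtain ⟨g, hg⟩ := MulAction.exists_smul_eq J T (T₀.subtype (hT₀N.trans hN))
    have hgs : (g : G) * s * (g : G)⁻¹ ∈ (T₀ : Subgroup G) := by
      have h1 : MulAut.conj g • (⟨s, hs⟩ : J) ∈ (g • T : Sylow 2 J) :=
        Subgroup.smul_mem_pointwise_smul _ _ _ (hT (Subgroup.mem_zpowers _))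
      rw [hg] at h1
      exact h1
    rcases D.mem_or_exists_core hz hE (hT₀N hgs) (by
      calc (g : G) * s * (g : G)⁻¹ * ((g : G) * s * (g : G)⁻¹)
          = g * (s * s) * (g : G)⁻¹ := by group
        _ = 1 := by rw [hs2]; group) with h | ⟨n, hn, hne⟩
    · exact ⟨g, g.2, h⟩
    rw [D.mem_E₀] at hne
    obtain ⟨p, hp, hpV⟩ := D.core_fusion_cent hJ _ hne (by
      calc D.g₀⁻¹ * (n * ((g : G) * s * (g : G)⁻¹) * n⁻¹) * D.g₀ *
            (D.g₀⁻¹ * (n * ((g : G) * s * (g : G)⁻¹) * n⁻¹) * D.g₀)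
          = D.g₀⁻¹ * (n * g * (s * s) * ((g : G)⁻¹ * n⁻¹)) * D.g₀ := by group
        _ = 1 := by rw [hs2]; group)
    have hq : D.g₀ * p * D.g₀⁻¹ ∈ J := by
      refine hC₀ (Subgroup.mem_centralizer_singleton_iff.2 ?_)
      rw [← D.g₀_conj]
      exact comm_conj hp
    refine ⟨D.g₀ * p * D.g₀⁻¹ * (n * g), mul_mem hq (mul_mem (hN hn) g.2), ?_⟩
    rwa [show D.g₀ * p * D.g₀⁻¹ * (n * g) * s * (D.g₀ * p * D.g₀⁻¹ * (n * g))⁻¹ =
      D.g₀ * p * (D.g₀⁻¹ * (n * ((g : G) * s * (g : G)⁻¹) * n⁻¹) * D.g₀) * (D.g₀ * p)⁻¹ by group]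
  by_contra hne
  have hSE : Cfsg.IsStronglyEmbedded J := by
    refine ⟨hne, ?_, fun g hg => ?_⟩
    · refine (CfsgLib.Involutions.even_card_iff J).2 ⟨u, hVJ hu, orderOf_eq_prime ?_ hu1⟩
      rw [pow_two, D.V_sq hu]
    refine (CfsgLib.Involutions.odd_card_iff _).2 fun s hs hs2 => hg ?_
    obtain ⟨hsJ, r, hr, hrs⟩ := hs
    change g * r * g⁻¹ = s at hrs
    have hs21 : s * s = 1 := by rw [← pow_two, ← hs2, pow_orderOf_eq_one]
    have hs1 : s ≠ 1 := fun e => by rw [e, orderOf_one] at hs2; norm_num at hs2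
    have hr2 : r * r = 1 := by
      have e : r * r = g⁻¹ * (s * s) * g := by rw [← hrs]; group
      rw [e, hs21]; group
    obtain ⟨j, hj, hjV⟩ := hinto s hsJ hs21
    obtain ⟨k, hk, hkV⟩ := hinto r hr hr2
    have hj1 : j * s * j⁻¹ ≠ 1 := fun e => hs1 (conj_eq_one_iff.1 e)
    have hk1 : k * r * k⁻¹ ≠ 1 := fun e => hs1 (by rw [← hrs, conj_eq_one_iff.1 e]; group)
    obtain ⟨n, hn, hnr⟩ := D.exists_move_mem hkV hjV hk1 hj1 (by
      rw [← hrs, isConj_conj, isConj_conj, isConj_conj])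
    have h : j * g * k⁻¹ * n⁻¹ ∈ J := by
      refine hcentV _ hjV hj1 (Subgroup.mem_centralizer_singleton_iff.2 ?_)
      calc j * g * k⁻¹ * n⁻¹ * (j * s * j⁻¹)
          = j * g * k⁻¹ * n⁻¹ * (n * (k * r * k⁻¹) * n⁻¹) := by rw [hnr]
        _ = j * (g * r * g⁻¹) * j⁻¹ * (j * g * k⁻¹ * n⁻¹) := by group
        _ = _ := by rw [hrs]
    have := mul_mem (mul_mem (mul_mem (inv_mem hj) h) (hN hn)) hk
    rwa [show j⁻¹ * (j * g * k⁻¹ * n⁻¹) * n * k = g by group] at this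
  obtain ⟨hdz, hd1⟩ : ¬ IsConj z (D.vm 3) ∧ D.vm 3 ≠ 1 :=
    D.not_isConj_duad (s := toSet 3) (by decide +kernel)
  exact hdz (huz.trans (CfsgLib.Involutions.SE.isConj hSE
    (orderOf_eq_prime (by rw [pow_two, D.V_sq hu]) hu1)
    (orderOf_eq_prime (by rw [pow_two, D.vm_sq]) hd1)))

end Eleven

end CfsgLib.Spor.JankoFourCentral
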