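import Cfsg.Agent.Lib.Spor.JankoFourCentral.Checks

/-!
Kernel checks behind the centraliser of a duad vector in groups of Janko-four type.
-/

set_option autoImplicit false
set_option maxRecDepth 100000

namespace CfsgLib.Spor.JankoFourCentral

open CfsgLib.Spor

/-- for each further point a tetrad far from the first two points and the given one, with tetrads
congruent to the three sums -/
def outerTbl : List (ℕ × ℕ × ℕ × ℕ × ℕ) := [
  (2, 57, 2162753, 5275649, 10497),
  (3, 53, 786945, 5275649, 10497),
  (4, 45, 8536065, 5275649, 10497),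
  (5, 29, 5249, 5275649, 10497),
  (6, 29, 5249, 663553, 8683521),
  (7, 45, 8536065, 262465, 2130433),
  (8, 29, 5249, 10486273, 10273),
  (9, 29, 5249, 10486017, 1245185),
  (10, 45, 8536065, 74241, 1572929),
  (11, 29, 5249, 344065, 8481),
  (12, 45, 8536065, 2623489, 4521985),
  (13, 29, 5249, 655425, 2337),
  (14, 29, 5249, 329729, 6815745),
  (15, 29, 5249, 5242913, 8650817),
  (16, 29, 5249, 280577, 1180161),
  (17, 29, 5249, 532545, 1114625),
  (18, 29, 5249, 83969, 8421441),
  (19, 29, 5249, 139329, 6307841),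
  (20, 29, 5249, 4227105, 197121),
  (21, 29, 5249, 8389377, 4734977),
  (22, 29, 5249, 1081377, 2637825),
  (23, 29, 5249, 2097921, 294977)]

/-- a duad mask is moved to a disjoint one by a translation, or lies in a tetrad of the sextet -/
theorem duad_check :
    ((List.range 24).all fun c => (List.range c).all fun d =>
      ((List.range 64).any fun j => Nat.beq
        (pop (Nat.xor (Nat.xor (2 ^ c) (2 ^ d)) (actP (tEl j) (Nat.xor (2 ^ c) (2 ^ d))))) 4) ||
      (sexBase.any fun t => Nat.beq (pop (Nat.xor t (Nat.xor (2 ^ c) (2 ^ d)))) 2)) = true := by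
  decide +kernel

theorem outer_check :
    ((List.range 24).all fun c => Nat.blt c 2 ||
      outerTbl.any fun e => Nat.beq e.1 c && Nat.blt e.2.1 16777216 && Nat.beq (pop e.2.1) 4 &&
        Nat.beq (pop e.2.2.1) 4 && Nat.beq (pop e.2.2.2.1) 4 && Nat.beq (pop e.2.2.2.2) 4 &&
        Nat.blt e.2.2.1 16777216 && Nat.blt e.2.2.2.1 16777216 && Nat.blt e.2.2.2.2 16777216 &&
        inCode (Nat.xor (Nat.xor e.2.1 3) e.2.2.1) &&
        inCode (Nat.xor (Nat.xor e.2.1 (Nat.xor (2 ^ 0) (2 ^ c))) e.2.2.2.1) &&
        inCode (Nat.xor (Nat.xor e.2.1 (Nat.xor (2 ^ 1) (2 ^ c))) e.2.2.2.2)) = true := by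
  decide +kernel

theorem three_check : (wList.any fun w => inCode (Nat.xor w 3)) = true := by
  decide +kernel

end CfsgLib.Spor.JankoFourCentral
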