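import Cfsg.Agent.Lib.Spor.JankoFourCentral.CoreFusion
import Cfsg.Agent.Lib.Spor.JankoFourCentral.LocalChecks

/-!
The common centraliser of a duad vector and a second vector of the elementary abelian subgroup of
order `2^11` in a group of Janko-four type normalises that subgroup.
-/

set_option autoImplicit false
set_option maxRecDepth 100000

namespace CfsgLib.Spor.JankoFourCentral

open Cfsg CfsgLib.Spor CfsgLib.Base
open scoped Pointwise symmDiff Matrix

local notation "supC" => supports (golayCode : Set (GolayPt → ZMod 2))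

theorem exists_move {k : ℕ} (hk : k ≤ 5) {f g : Fin k → GolayPt} (hf : Function.Injective f)
    (hg : Function.Injective g) : ∃ σ : M24, ∀ i, (σ : Equiv.Perm GolayPt) (f i) = g i := by
  haveI := isMultiplyPretransitive_le_five hk
  obtain ⟨σ, hσ⟩ := MulAction.exists_smul_eq M24 (⟨f, hf⟩ : Fin k ↪ GolayPt) ⟨g, hg⟩
  exact ⟨σ, fun i => congrArg (fun e : Fin k ↪ GolayPt => e i) hσ⟩

theorem toSet_pow_pt {i : ℕ} (hi : i < 24) : toSet (2 ^ i) = {pt i} := by
  ext p
  rw [mem_toSet, Nat.testBit_two_pow, decide_eq_true_eq, Finset.mem_singleton]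
  constructor
  · intro h; rw [h, pt_idx]
  · intro h; rw [h, idx_pt hi]

theorem pt_inj {i j : ℕ} (hi : i < 24) (hj : j < 24) (h : pt i = pt j) : i = j := by
  rw [← idx_pt hi, h, idx_pt hj]

theorem toSet_pair {i j : ℕ} (hi : i < 24) (hj : j < 24) (h : i ≠ j) :
    toSet (2 ^ i ^^^ 2 ^ j) = {pt i, pt j} := by
  rw [toSet_xor, toSet_pow_pt hi, toSet_pow_pt hj,
    (Finset.disjoint_singleton.2 fun e => h (pt_inj hi hj e)).symmDiff_eq_sup]
  rfl

theorem even_symmDiff {s t : Finset GolayPt} (hs : Even s.card) (ht : Even t.card) :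
    Even (s ∆ t).card := by
  have h := card_symmDiff_add s t
  rw [Nat.even_iff] at *
  omega

theorem disjoint_pairs_le :
    ((Finset.univ.powersetCard 2).biUnion fun P : Finset GolayPt =>
      (Pᶜ.powersetCard 2).map ⟨fun R => (P, R), fun R R' h => (Prod.ext_iff.1 h).2⟩).card
      ≤ 276 * 231 := by
  refine (Finset.card_biUnion_le_card_mul _ _ 231 fun P hP => ?_).trans ?_
  · rw [Finset.card_map, Finset.card_powersetCard, Finset.card_compl,
      (Finset.mem_powersetCard.1 hP).2, card_golayPt]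
    decide
  · rw [Finset.card_powersetCard, Finset.card_univ, card_golayPt]
    decide

theorem card_two_sets :
    244823040 ≤ Nat.card ↥(MulAction.stabilizer M24
      ((toSet 3, toSet 12) : Finset GolayPt × Finset GolayPt)) * (276 * 231) := by
  classical
  set x : Finset GolayPt × Finset GolayPt := (toSet 3, toSet 12) with hx
  have h1 : (MulAction.orbit M24 x).ncard ≤ 276 * 231 := by
    refine le_trans ?_ disjoint_pairs_le
    rw [← Set.ncard_coe_finset]
    refine Set.ncard_le_ncard ?_ (Finset.finite_toSet _)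
    rintro y ⟨σ, rfl⟩
    have hc : (toSet 3).card = 2 ∧ (toSet 12).card = 2 ∧ Disjoint (toSet 3) (toSet 12) := by
      decide +kernel
    simp only [Finset.coe_biUnion, Finset.coe_map, Set.mem_iUnion, Set.mem_image,
      Finset.mem_coe, Finset.mem_powersetCard, Finset.subset_univ, true_and]
    refine ⟨((σ : Equiv.Perm GolayPt) • toSet 3), by rw [Finset.card_smul_finset]; exact hc.1,
      ((σ : Equiv.Perm GolayPt) • toSet 12), ⟨?_, by rw [Finset.card_smul_finset]; exact hc.2.1⟩, rfl⟩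
    intro p hp
    rw [Finset.mem_compl]
    intro hp'
    rw [← Finset.inv_smul_mem_iff] at hp hp'
    exact Finset.disjoint_left.1 hc.2.2 hp' hp
  have h2 := (MulAction.stabilizer M24 x).card_mul_index
  rw [MulAction.index_stabilizer, natCard_M24] at h2
  rw [← h2]
  exact Nat.mul_le_mul_left _ h1

namespace Eleven

variable {G : Type*} [Group G] [Finite G] {z : G} {A : Type*} [AddCommGroup A] (D : Eleven z A)

/-- the vector of a set of points -/
def vs (s : Finset GolayPt) : G := D.ι (D.C.S s)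

theorem vs_mem (s : Finset GolayPt) : D.vs s ∈ D.V := D.ι_mem _

theorem vs_toSet (m : ℕ) : D.vs (toSet m) = D.vm m := rfl

theorem vs_mul (s t : Finset GolayPt) : D.vs (s ∆ t) = D.vs s * D.vs t := by
  rw [vs, D.C.S_symmDiff, D.ι_add]; rfl

theorem V_comm {a b : G} (ha : a ∈ D.V) (hb : b ∈ D.V) : a * b = b * a := by
  obtain ⟨x, rfl⟩ := (D.mem_V a).1 ha
  obtain ⟨y, rfl⟩ := (D.mem_V b).1 hb
  exact D.ι_comm x y

theorem V_sq {a : G} (ha : a ∈ D.V) : a * a = 1 := by
  obtain ⟨x, rfl⟩ := (D.mem_V a).1 ha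
  rw [← D.ι_add, D.C.two, D.ι_zero]

theorem V_inv {a : G} (ha : a ∈ D.V) : a⁻¹ = a := inv_eq_of_mul_eq_one_right (D.V_sq ha)

theorem exists_vs {v : G} (hv : v ∈ D.V) : ∃ s : Finset GolayPt, Even s.card ∧ D.vs s = v := by
  obtain ⟨a, rfl⟩ := (D.mem_V v).1 hv
  obtain ⟨s, hs, rfl⟩ := D.C.gen a
  exact ⟨s, hs, rfl⟩

theorem vs_eq_one_iff {s : Finset GolayPt} (hs : Even s.card) : D.vs s = 1 ↔ s ∈ supC := by
  rw [← D.ι_zero, vs]
  exact ⟨fun h => (D.C.rel s hs).1 (D.ι_inj h), fun h => congrArg D.ι ((D.C.rel s hs).2 h)⟩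

theorem vs_eq_iff {s t : Finset GolayPt} (hs : Even s.card) (ht : Even t.card) :
    D.vs s = D.vs t ↔ s ∆ t ∈ supC := by
  rw [← D.vs_eq_one_iff (even_symmDiff hs ht), D.vs_mul, mul_eq_one_iff_eq_inv,
    D.V_inv (D.vs_mem t)]

theorem isConj_tetrad {s : Finset GolayPt} (h : s.card = 4) : IsConj z (D.vs s) := by
  obtain ⟨h0, hd⟩ := D.C.tetrad_not_duad h
  by_contra hc
  exact hd ((D.duad _ h0).2 hc)

theorem not_isConj_duad {s : Finset GolayPt} (h : s.card = 2) :
    ¬ IsConj z (D.vs s) ∧ D.vs s ≠ 1 := by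
  have h0 : D.C.S s ≠ 0 := by
    intro h0
    have := D.C.S_inj (t := ∅) (by simp [h]) (by simp [h]) h0
    rw [this] at h
    simp at h
  exact ⟨(D.duad _ h0).1 (D.C.mem_duads_iff.2 ⟨s, h, rfl⟩),
    fun e => h0 (D.ι_inj (e.trans D.ι_zero.symm))⟩

theorem isConj_ne_one (hJ : Cfsg.IsOfJankoFourTypeAt z) {v : G} (h : IsConj z v) : v ≠ 1 := by
  rintro rfl
  obtain ⟨c, hc⟩ := isConj_iff.1 h
  rw [conj_eq_one_iff] at hc
  have hz : orderOf z = 2 := hJ.choose_spec.1
  rw [hc, orderOf_one] at hz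
  exact absurd hz (by norm_num)

theorem exists_duad {v : G} (hv : v ∈ D.V) (h1 : v ≠ 1) (hz : ¬ IsConj z v) :
    ∃ P : Finset GolayPt, P.card = 2 ∧ D.vs P = v := by
  obtain ⟨a, rfl⟩ := (D.mem_V v).1 hv
  have ha : a ≠ 0 := fun h => h1 (by rw [h, D.ι_zero])
  obtain ⟨P, hP, rfl⟩ := D.C.mem_duads_iff.1 ((D.duad a ha).2 hz)
  exact ⟨P, hP, rfl⟩

theorem exists_tetrad (hJ : Cfsg.IsOfJankoFourTypeAt z) {v : G} (hv : v ∈ D.V) (hz : IsConj z v) :
    ∃ T : Finset GolayPt, T.card = 4 ∧ D.vs T = v := by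
  obtain ⟨a, rfl⟩ := (D.mem_V v).1 hv
  rcases D.C.eq_tetrad_or_duad a with h | h | ⟨T, hT, rfl⟩
  · exact absurd (by rw [h, D.ι_zero]) (isConj_ne_one hJ hz)
  · have ha : a ≠ 0 := fun h0 => isConj_ne_one hJ hz (by rw [h0, D.ι_zero])
    exact absurd hz ((D.duad a ha).1 h)
  · exact ⟨T, hT, rfl⟩

omit [Finite G] in
theorem isConj_conj {u g : G} : IsConj z (g * u * g⁻¹) ↔ IsConj z u :=
  ⟨fun h => h.trans (isConj_iff.2 ⟨g, rfl⟩).symm, fun h => h.trans (isConj_iff.2 ⟨g, rfl⟩)⟩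

theorem L_vs (σ : M24) {s : Finset GolayPt} (hs : Even s.card) :
    D.L σ * D.vs s * (D.L σ)⁻¹ = D.vs ((σ : Equiv.Perm GolayPt) • s) := D.L_conj σ hs

theorem L_conj_mem (σ : M24) {v : G} (hv : v ∈ D.V) : D.L σ * v * (D.L σ)⁻¹ ∈ D.V :=
  (Subgroup.mem_normalizer_iff.1 (D.L_mem σ) v).1 hv

theorem mem_N_of_conj {x : G} {σ : M24}
    (h : D.L σ * x * (D.L σ)⁻¹ ∈ Subgroup.normalizer (D.V : Set G)) :
    x ∈ Subgroup.normalizer (D.V : Set G) := by
  have := mul_mem (mul_mem (inv_mem (D.L_mem σ)) h) (D.L_mem σ)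
  rwa [show (D.L σ)⁻¹ * (D.L σ * x * (D.L σ)⁻¹) * D.L σ = x by group] at this

omit [Finite G] in
theorem comm_conj {c t g : G} (h : c * t = t * c) :
    g * c * g⁻¹ * (g * t * g⁻¹) = g * t * g⁻¹ * (g * c * g⁻¹) := by
  rw [show g * c * g⁻¹ * (g * t * g⁻¹) = g * (c * t) * g⁻¹ by group, h]
  group

omit [Finite G] in
theorem comm_back {c t g : G} (h : c * t = t * c) (hg : g * t = t * g) :
    g * c * g⁻¹ * t = t * (g * c * g⁻¹) := by
  have := comm_conj (g := g) h
  rwa [mul_inv_eq_iff_eq_mul.2 hg] at this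

theorem mem_N_of_map_le {g : G}
    (h : ∀ v ∈ D.V, g * v * g⁻¹ ∈ Subgroup.normalizer (D.V : Set G)) :
    g ∈ Subgroup.normalizer (D.V : Set G) := by
  have hle : D.V.map (MulAut.conj g).toMonoidHom ≤ Subgroup.normalizer (D.V : Set G) := by
    rintro _ ⟨v, hv, rfl⟩
    exact h v hv
  have hP : IsPGroup 2 (D.V.map (MulAut.conj g).toMonoidHom ⊔ D.V : Subgroup G) :=
    (D.isPGroup_V.map _).to_sup_of_normal_right' D.isPGroup_V hle
  obtain ⟨T, hT⟩ := hP.exists_le_sylow
  exact D.mem_normalizer_of_map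
    (D.eq_conj_of_le T g (le_sup_right.trans hT) (le_sup_left.trans hT))

/-- a lower bound on the common centraliser inside the normaliser -/
theorem card_inner_le :
    2 ^ 11 * 3840 ≤ Nat.card ↥(Subgroup.centralizer ({D.vm 15} : Set G) ⊓
      Subgroup.centralizer ({D.vm 3} : Set G) ⊓ Subgroup.normalizer (D.V : Set G)) := by
  classical
  set S := MulAction.stabilizer M24 ((toSet 3, toSet 12) : Finset GolayPt × Finset GolayPt)
    with hS
  have hfix : ∀ σ ∈ S, D.L σ * D.vm 3 = D.vm 3 * D.L σ ∧ D.L σ * D.vm 15 = D.vm 15 * D.L σ := by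
    intro σ hσ
    rw [hS, MulAction.mem_stabilizer_iff, Prod.ext_iff] at hσ
    obtain ⟨h3, h12⟩ := hσ
    change (σ : Equiv.Perm GolayPt) • toSet 3 = toSet 3 at h3
    change (σ : Equiv.Perm GolayPt) • toSet 12 = toSet 12 at h12
    have e3 := D.L_vs σ (s := toSet 3) (by decide +kernel)
    have e12 := D.L_vs σ (s := toSet 12) (by decide +kernel)
    rw [h3, vs_toSet] at e3
    rw [h12, vs_toSet] at e12
    refine ⟨mul_inv_eq_iff_eq_mul.1 e3, mul_inv_eq_iff_eq_mul.1 ?_⟩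
    rw [show (15 : ℕ) = 3 ^^^ 12 by decide +kernel, D.vm_xor,
      show D.L σ * (D.vm 3 * D.vm 12) * (D.L σ)⁻¹ =
        D.L σ * D.vm 3 * (D.L σ)⁻¹ * (D.L σ * D.vm 12 * (D.L σ)⁻¹) by group, e3, e12]
  let f : D.V × S → ↥(Subgroup.centralizer ({D.vm 15} : Set G) ⊓
      Subgroup.centralizer ({D.vm 3} : Set G) ⊓ Subgroup.normalizer (D.V : Set G)) := fun p =>
    ⟨(p.1 : G) * D.L p.2, ⟨⟨Subgroup.mem_centralizer_singleton_iff.2 (by
        rw [mul_assoc, (hfix _ p.2.2).2, ← mul_assoc, D.V_comm p.1.2 (D.vm_mem 15), mul_assoc]),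
      Subgroup.mem_centralizer_singleton_iff.2 (by
        rw [mul_assoc, (hfix _ p.2.2).1, ← mul_assoc, D.V_comm p.1.2 (D.vm_mem 3), mul_assoc])⟩,
      mul_mem (Subgroup.le_normalizer p.1.2) (D.L_mem _)⟩⟩
  have hf : Function.Injective f := by
    rintro ⟨⟨v, hv⟩, σ⟩ ⟨⟨w, hw⟩, τ⟩ h
    have h' : v * D.L σ = w * D.L τ := congrArg Subtype.val h
    have h2 : D.L σ * (D.L τ)⁻¹ ∈ D.K ⊓ D.V := by
      refine Subgroup.mem_inf.2 ⟨mul_mem (D.L_mem_K _) (inv_mem (D.L_mem_K _)), ?_⟩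
      rw [show D.L σ * (D.L τ)⁻¹ = v⁻¹ * w * (w⁻¹ * (v * D.L σ) * (D.L τ)⁻¹) by group, h',
        show w⁻¹ * (w * D.L τ) * (D.L τ)⁻¹ = 1 by group, mul_one]
      exact mul_mem (inv_mem hv) hw
    rw [D.inf, Subgroup.mem_bot, mul_inv_eq_one] at h2
    have e := D.L_inj h2
    rw [h2] at h'
    exact Prod.ext (Subtype.ext (mul_right_cancel h')) (Subtype.ext e)
  refine le_trans ?_ (Nat.card_le_card_of_injective f hf)
  rw [Nat.card_prod, D.card]
  refine Nat.mul_le_mul_left _ ?_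
  have := card_two_sets
  rw [← hS] at this
  omega

/-- the standard pair: a duad inside the first tetrad -/
theorem inner_std (hJ : Cfsg.IsOfJankoFourTypeAt z) {c : G}
    (hc3 : c * D.vm 3 = D.vm 3 * c) (hc15 : c * D.vm 15 = D.vm 15 * c) :
    c ∈ Subgroup.normalizer (D.V : Set G) := by
  classical
  have hz : orderOf z = 2 := hJ.choose_spec.1
  have hE := D.E₀_nonabelian hJ
  obtain ⟨P, hP⟩ := id hJ
  obtain ⟨M⟩ := LargeFi.J4.model_of_type hP
  have hw := three_check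
  rw [List.any_eq_true] at hw
  obtain ⟨w, hw, hwc⟩ := hw
  have hev3 : Ev 3 := ev_of_check (by norm_num) (by decide +kernel)
  have h3E : D.vm 3 ∈ D.E₀ := by
    rw [← D.vm_eq (ev_wList hw) hev3 hwc]
    exact D.wList_mem hz hE w hw
  obtain ⟨a, ha, hae⟩ := Subgroup.mem_map.1 (D.mem_E₀.1 h3E)
  change (a : G) = _ at hae
  have h3 : D.g₀ * (a : G) * D.g₀⁻¹ = D.vm 3 := by rw [hae]; group
  have hd : ¬ IsConj z (D.vm 3) ∧ D.vm 3 ≠ 1 := D.not_isConj_duad (s := toSet 3) (by decide +kernel)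
  have ha0 : M.vec ⟨a, ha⟩ ≠ 0 := by
    intro h
    rcases (M.vec_eq_zero _).1 h with e | e
    · refine hd.2 ?_
      rw [← h3, show (a : G) = 1 from congrArg Subtype.val e]
      group
    · refine hd.1 ?_
      rw [← h3, show (a : G) = z from congrArg Subtype.val e, D.g₀_conj]
      exact D.isConj_z₀
  have ha2 : LargeFi.nf (M.vec ⟨a, ha⟩) = 0 := by
    refine (M.vec_sq _).1 (Subtype.ext ?_)
    show (a : G) * a = 1
    rw [hae, show D.g₀⁻¹ * D.vm 3 * D.g₀ * (D.g₀⁻¹ * D.vm 3 * D.g₀) =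
      D.g₀⁻¹ * (D.vm 3 * D.vm 3) * D.g₀ by group, D.vm_sq]
    group
  have act_inv : ∀ (h : ↥(Subgroup.centralizer ({z} : Set G))) (v : LargeFi.V6),
      M.act h⁻¹ (M.act h v) = v := by
    intro h v
    show (M.act h⁻¹ * M.act h) v = v
    rw [← map_mul, inv_mul_cancel, map_one]
    rfl
  -- many conjugates of `a`
  obtain ⟨l, hl693, hlnd, hlu⟩ : ∃ l : List ℕ, 693 ≤ l.length ∧ l.Nodup ∧
      ∀ u ∈ l, LargeFi.vc (LargeFi.vOf u) = u ∧ ∃ h, M.act h (M.vec ⟨a, ha⟩) = LargeFi.vOf u := by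
    have hlen := LargeFi.J4.list_lengths
    simp only [Bool.and_eq_true, Nat.beq_eq] at hlen
    have act_of : ∀ {g : U62.U6} {g' : U62.U6} {r v : LargeFi.V6}, g ∈ LargeFi.J4.L0 → g' ∈ LargeFi.J4.L0 →
        U62.mat g *ᵥ r = M.vec ⟨a, ha⟩ → U62.mat g' *ᵥ r = v →
        ∃ h, M.act h (M.vec ⟨a, ha⟩) = v := by
      intro g g' r v hg hg' e e'
      obtain ⟨h, -, hh⟩ := M.L0_lift g hg
      obtain ⟨h', -, hh'⟩ := M.L0_lift g' hg'
      refine ⟨h' * h⁻¹, ?_⟩
      rw [← e, ← hh, map_mul]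
      show M.act h' (M.act h⁻¹ (M.act h r)) = v
      rw [act_inv, hh', e']
    rcases LargeFi.J4.isotropic_cases ha2 ha0 with hs | hs
    · refine ⟨LargeFi.J4.smallL, hlen.1.1.1.ge, (List.isChain_iff_pairwise.1 (LargeFi.incrB_spec hlen.1.2)).imp Nat.ne_of_lt,
        fun u hu => ?_⟩
      have hi := List.all_eq_true.1 LargeFi.J4.small_iso u hu
      simp only [Bool.and_eq_true, Nat.blt_eq] at hi
      have hv : LargeFi.vc (LargeFi.vOf u) = u := LargeFi.vc_vOf hi.1.2
      have hsu : LargeFi.J4.Small (LargeFi.vOf u) := by rw [LargeFi.J4.Small, hv]; exact hu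
      obtain ⟨g, hg, e⟩ := LargeFi.J4.small_orbit hs
      obtain ⟨g', hg', e'⟩ := LargeFi.J4.small_orbit hsu
      exact ⟨hv, act_of hg hg' e e'⟩
    · refine ⟨LargeFi.J4.bigL, by rw [hlen.1.1.2]; norm_num,
        (List.isChain_iff_pairwise.1 (LargeFi.incrB_spec hlen.2)).imp Nat.ne_of_lt, fun u hu => ?_⟩
      have hi := List.all_eq_true.1 LargeFi.J4.big_iso u hu
      simp only [Bool.and_eq_true, Nat.blt_eq] at hi
      have hv : LargeFi.vc (LargeFi.vOf u) = u := LargeFi.vc_vOf hi.2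
      have hsu : LargeFi.J4.Big (LargeFi.vOf u) := by rw [LargeFi.J4.Big, hv]; exact hu
      obtain ⟨g, hg, e⟩ := LargeFi.J4.big_orbit hs
      obtain ⟨g', hg', e'⟩ := LargeFi.J4.big_orbit hsu
      exact ⟨hv, act_of hg hg' e e'⟩
  have hconj : ∀ i : Fin 693, ∃ (p : ↥(Subgroup.centralizer ({z} : Set G)))
      (q : LargeFi.J4.coreH z), (q : ↥(Subgroup.centralizer ({z} : Set G))) = p * a * p⁻¹ ∧
        M.vec q = LargeFi.vOf (l[i.1]'(i.2.trans_le hl693)) := by
    intro i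
    obtain ⟨-, h, hh⟩ := hlu _ (List.getElem_mem (i.2.trans_le hl693))
    exact ⟨h, MulAut.conjNormal h ⟨a, ha⟩, rfl, by rw [M.vec_conj, hh]⟩
  choose p₀ q hq hqv using hconj
  have hq0 : ∀ i, M.vec (q i) ≠ 0 := by
    intro i h0
    obtain ⟨-, h, hh⟩ := hlu _ (List.getElem_mem (i.2.trans_le hl693))
    rw [← hqv i, h0] at hh
    have := congrArg (M.act h⁻¹) hh
    rw [map_zero, act_inv] at this
    exact ha0 this
  have hpair : ∀ x : Fin 693 × Bool, ∃ p : ↥(Subgroup.centralizer ({z} : Set G)),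
      p * a * p⁻¹ = (if x.2 then LargeFi.zH z else 1) *
        (q x.1 : ↥(Subgroup.centralizer ({z} : Set G))) := by
    rintro ⟨i, b⟩
    cases b with
    | false => exact ⟨p₀ i, by rw [if_neg Bool.false_ne_true, one_mul, hq]⟩
    | true =>
      have hzq : LargeFi.zH z * (q i : ↥(Subgroup.centralizer ({z} : Set G))) ∈
          LargeFi.J4.coreH z := mul_mem M.xc.mem (q i).2
      have hv' : M.vec (q i) = M.vec ⟨_, hzq⟩ := by
        have h1 : M.vec (⟨_, hzq⟩ : LargeFi.J4.coreH z) =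
            M.vec ⟨LargeFi.zH z, M.xc.mem⟩ + M.vec (q i) := by
          rw [← M.vec_mul]; rfl
        rw [h1, (M.vec_eq_zero ⟨LargeFi.zH z, M.xc.mem⟩).2 (Or.inr rfl), zero_add]
      obtain ⟨r, hr⟩ := conj_of_vec_eq M hv' (hq0 i)
      refine ⟨r * p₀ i, ?_⟩
      rw [if_pos rfl]
      refine Eq.trans ?_ hr
      rw [hq]; group
  choose p hp using hpair
  let St : Subgroup ↥(Subgroup.centralizer ({z} : Set G)) := Subgroup.centralizer {a}
  have hidx : 1386 ≤ St.index := by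
    let f : Fin 693 × Bool → ↥(Subgroup.centralizer ({z} : Set G)) ⧸ St := fun x => QuotientGroup.mk (p x)
    have hf : Function.Injective f := by
      intro x y h
      have h2 := Subgroup.mem_centralizer_singleton_iff.1 (QuotientGroup.eq.1 h)
      have h3 : p x * a * (p x)⁻¹ = p y * a * (p y)⁻¹ := by
        calc p x * a * (p x)⁻¹ = p x * (a * ((p x)⁻¹ * p y)) * (p y)⁻¹ := by group
          _ = p x * ((p x)⁻¹ * p y * a) * (p y)⁻¹ := by rw [h2]
          _ = _ := by group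
      rw [hp, hp] at h3
      have hmem : ∀ b : Bool, (if b then LargeFi.zH z else 1) ∈ LargeFi.J4.coreH z := by
        intro b
        split
        · exact M.xc.mem
        · exact one_mem _
      have hvec : ∀ b : Bool, M.vec ⟨_, hmem b⟩ = 0 := by
        intro b
        refine (M.vec_eq_zero _).2 ?_
        cases b
        · exact Or.inl rfl
        · exact Or.inr rfl
      have hv : M.vec (⟨_, hmem x.2⟩ * q x.1) = M.vec (⟨_, hmem y.2⟩ * q y.1) :=
        congrArg M.vec (Subtype.ext h3)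
      rw [M.vec_mul, M.vec_mul, hvec, hvec, zero_add, zero_add, hqv, hqv] at hv
      have hvu := congrArg LargeFi.vc hv
      rw [(hlu _ (List.getElem_mem _)).1, (hlu _ (List.getElem_mem _)).1] at hvu
      have hi : x.1 = y.1 := Fin.ext (hlnd.getElem_inj_iff.1 hvu)
      rw [hi] at h3
      have e := mul_right_cancel h3
      refine Prod.ext hi ?_
      rcases x with ⟨_, _ | _⟩ <;> rcases y with ⟨_, _ | _⟩
      · rfl
      · exact absurd (e.symm : LargeFi.zH z = 1) M.xc.ne_one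
      · exact absurd (e : LargeFi.zH z = 1) M.xc.ne_one
      · rfl
    have := Nat.card_le_card_of_injective f hf
    rw [Nat.card_prod, Nat.card_eq_fintype_card (α := Fin 693),
      Nat.card_eq_fintype_card (α := Bool), Fintype.card_fin, Fintype.card_bool] at this
    exact this
  have hupper : Nat.card St ≤ 2 ^ 20 * 15 := by
    have h1 := St.card_mul_index
    rw [M.card_H] at h1
    have h2 : Nat.card St * 1386 ≤ Nat.card St * St.index := Nat.mul_le_mul_left _ hidx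
    rw [h1] at h2
    omega
  -- transfer to the vectors
  set Ht := Subgroup.centralizer ({D.vm 15} : Set G) ⊓ Subgroup.centralizer ({D.vm 3} : Set G)
    with hHt
  have hHtc : Nat.card Ht ≤ 2 ^ 20 * 15 := by
    have key : Ht ≤ (St.map (Subgroup.centralizer ({z} : Set G)).subtype).map (MulAut.conj D.g₀).toMonoidHom := by
      intro x hx
      obtain ⟨hx1, hx2⟩ := Subgroup.mem_inf.1 hx
      rw [Subgroup.mem_centralizer_singleton_iff] at hx1 hx2
      have hxz : D.g₀⁻¹ * x * D.g₀ ∈ Subgroup.centralizer ({z} : Set G) := by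
        rw [Subgroup.mem_centralizer_singleton_iff]
        have e := comm_conj (g := D.g₀⁻¹) hx1
        rw [inv_inv] at e
        have e2 : D.g₀⁻¹ * D.vm 15 * D.g₀ = z := by
          rw [show D.vm 15 = D.z₀ from rfl, ← D.g₀_conj]; group
        rwa [e2] at e
      refine ⟨D.g₀⁻¹ * x * D.g₀, ⟨⟨_, hxz⟩, Subgroup.mem_centralizer_singleton_iff.2 ?_, rfl⟩,
        by simp [mul_assoc]⟩
      refine Subtype.ext ?_
      show D.g₀⁻¹ * x * D.g₀ * (a : G) = (a : G) * (D.g₀⁻¹ * x * D.g₀)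
      have e := comm_conj (g := D.g₀⁻¹) hx2
      rw [inv_inv] at e
      rwa [hae]
    refine (Subgroup.card_le_of_le key).trans ?_
    rw [Subgroup.card_map_of_injective (MulAut.conj D.g₀).injective,
      Subgroup.card_map_of_injective (Subgroup.centralizer ({z} : Set G)).subtype_injective]
    exact hupper
  have hlow := D.card_inner_le
  rw [← hHt] at hlow
  set N := Subgroup.normalizer (D.V : Set G) with hN
  set U := (Ht ⊓ N).subgroupOf Ht with hU
  have hcU : Nat.card U = Nat.card ↥(Ht ⊓ N) :=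
    Nat.card_congr (Subgroup.subgroupOfEquivOfLe inf_le_left).toEquiv
  have hidx2 : U.index ≤ 2 := by
    have h1 := U.card_mul_index
    rw [hcU] at h1
    by_contra hgt
    have h2 : Nat.card ↥(Ht ⊓ N) * 3 ≤ Nat.card ↥(Ht ⊓ N) * U.index :=
      Nat.mul_le_mul_left _ (by omega)
    omega
  have hUn : U.Normal := by
    have h0 : U.index ≠ 0 := Subgroup.index_ne_zero_of_finite
    rcases (show U.index = 1 ∨ U.index = 2 by omega) with h | h
    · rw [Subgroup.index_eq_one.1 h]; infer_instance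
    · exact Subgroup.normal_of_index_eq_two h
  have hcH : c ∈ Ht := ⟨Subgroup.mem_centralizer_singleton_iff.2 hc15,
    Subgroup.mem_centralizer_singleton_iff.2 hc3⟩
  refine D.mem_N_of_map_le fun v hv => ?_
  have hvH : v ∈ Ht := ⟨Subgroup.mem_centralizer_singleton_iff.2 (D.V_comm hv (D.vm_mem _)),
    Subgroup.mem_centralizer_singleton_iff.2 (D.V_comm hv (D.vm_mem _))⟩
  have h := hUn.conj_mem ⟨v, hvH⟩ (Subgroup.mem_subgroupOf.2 ⟨hvH, Subgroup.le_normalizer hv⟩)
    ⟨c, hcH⟩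
  exact (Subgroup.mem_subgroupOf.1 h).2

/-- the common centraliser of a duad vector and a second vector making a duad with it -/
theorem inner_cent (hJ : Cfsg.IsOfJankoFourTypeAt z) {t q c : G} (ht : t ∈ D.V) (hq : q ∈ D.V)
    (ht1 : t ≠ 1) (htz : ¬ IsConj z t) (hqz : IsConj z q) (hqt : ¬ IsConj z (q * t))
    (hct : c * t = t * c) (hcq : c * q = q * c) : c ∈ Subgroup.normalizer (D.V : Set G) := by
  classical
  obtain ⟨P, hP, rfl⟩ := D.exists_duad ht ht1 htz
  have hne : q * D.vs P ≠ 1 := by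
    intro h
    rw [mul_eq_one_iff_eq_inv, D.V_inv (D.vs_mem P)] at h
    exact htz (h ▸ hqz)
  obtain ⟨R, hR, hRe⟩ := D.exists_duad (mul_mem hq (D.vs_mem P)) hne hqt
  have hq' : q = D.vs (P ∆ R) := by
    rw [D.vs_mul, hRe, D.V_comm hq (D.vs_mem P), ← mul_assoc, D.V_sq (D.vs_mem P), one_mul]
  subst hq'
  have hdis : Disjoint P R := by
    by_contra hd
    have h := card_symmDiff_add P R
    rw [hP, hR] at h
    have h1 : 0 < (P ∩ R).card :=
      Finset.card_pos.2 (Finset.not_disjoint_iff_nonempty_inter.1 hd)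
    rcases (show (P ∆ R).card = 0 ∨ (P ∆ R).card = 2 by omega) with e | e
    · refine isConj_ne_one hJ hqz ?_
      rw [Finset.card_eq_zero.1 e]; exact D.ι_zero
    · exact (D.not_isConj_duad e).1 hqz
  obtain ⟨a, b, hab, rfl⟩ := Finset.card_eq_two.1 hP
  obtain ⟨u, v, huv, rfl⟩ := Finset.card_eq_two.1 hR
  simp only [Finset.disjoint_insert_left, Finset.disjoint_singleton_left, Finset.mem_insert,
    Finset.mem_singleton, not_or] at hdis
  have hinj : Function.Injective ![a, b, u, v] := by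
    intro i j
    fin_cases i <;> fin_cases j <;>
      simp [hab, hab.symm, huv, huv.symm, hdis.1.1, hdis.1.2, hdis.2.1, hdis.2.2,
        Ne.symm hdis.1.1, Ne.symm hdis.1.2, Ne.symm hdis.2.1, Ne.symm hdis.2.2]
  obtain ⟨σ, hσ⟩ := exists_move (k := 4) (by norm_num) hinj
    (g := ![pt 0, pt 1, pt 2, pt 3]) (by decide +kernel)
  have e0 : (σ : Equiv.Perm GolayPt) a = pt 0 := hσ 0
  have e1 : (σ : Equiv.Perm GolayPt) b = pt 1 := hσ 1
  have e2 : (σ : Equiv.Perm GolayPt) u = pt 2 := hσ 2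
  have e3 : (σ : Equiv.Perm GolayPt) v = pt 3 := hσ 3
  have k1 : (σ : Equiv.Perm GolayPt) • ({a, b} : Finset GolayPt) = toSet 3 := by
    rw [Finset.smul_finset_insert, Finset.smul_finset_singleton, Equiv.Perm.smul_def,
      Equiv.Perm.smul_def, e0, e1]
    decide +kernel
  have k2 : (σ : Equiv.Perm GolayPt) • ({u, v} : Finset GolayPt) = toSet 12 := by
    rw [Finset.smul_finset_insert, Finset.smul_finset_singleton, Equiv.Perm.smul_def,
      Equiv.Perm.smul_def, e2, e3]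
    decide +kernel
  have ev2 : ∀ {x y : GolayPt}, x ≠ y → Even ({x, y} : Finset GolayPt).card := fun h => by
    rw [Finset.card_pair h]; decide
  refine D.mem_N_of_conj (σ := σ) (D.inner_std hJ ?_ ?_)
  · have := comm_conj (g := D.L σ) hct
    rwa [D.L_vs σ (ev2 hab), k1, vs_toSet] at this
  · have := comm_conj (g := D.L σ) hcq
    rwa [D.vs_mul, show D.L σ * (D.vs {a, b} * D.vs {u, v}) * (D.L σ)⁻¹ =
      D.L σ * D.vs {a, b} * (D.L σ)⁻¹ * (D.L σ * D.vs {u, v} * (D.L σ)⁻¹) by group,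
      D.L_vs σ (ev2 hab), D.L_vs σ (ev2 huv), k1, k2, vs_toSet, vs_toSet, ← D.vm_xor] at this

/-- an element centralising a duad vector and moving an inner vector within the subgroup -/
theorem inner_back (hJ : Cfsg.IsOfJankoFourTypeAt z) {t r g : G} (ht : t ∈ D.V) (hr : r ∈ D.V)
    (ht1 : t ≠ 1) (htz : ¬ IsConj z t) (hrz : IsConj z r) (hrt : ¬ IsConj z (r * t))
    (hgt : g * t = t * g) (hgr : g * r * g⁻¹ ∈ D.V) : g ∈ Subgroup.normalizer (D.V : Set G) := by
  refine D.mem_N_of_map_le fun v hv => ?_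
  refine D.inner_cent hJ ht hgr ht1 htz (isConj_conj.2 hrz) ?_
    (comm_back (D.V_comm hv ht) hgt) (comm_conj (D.V_comm hv hr))
  intro h
  refine hrt ((isConj_conj (g := g)).1 ?_)
  rwa [show g * (r * t) * g⁻¹ = g * r * g⁻¹ * (g * t * g⁻¹) by group,
    mul_inv_eq_iff_eq_mul.2 hgt]

/-- the common centraliser of a duad vector and the vector of the first tetrad -/
theorem cent_z₀ (hJ : Cfsg.IsOfJankoFourTypeAt z) {t c : G} (ht : t ∈ D.V) (ht1 : t ≠ 1)
    (htz : ¬ IsConj z t) (hct : c * t = t * c) (hcq : c * D.vm 15 = D.vm 15 * c) :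
    c ∈ Subgroup.normalizer (D.V : Set G) := by
  classical
  have hz : orderOf z = 2 := hJ.choose_spec.1
  have hE := D.E₀_nonabelian hJ
  by_cases hin : IsConj z (D.vm 15 * t)
  swap
  · exact D.inner_cent hJ ht (D.vm_mem 15) ht1 htz D.isConj_z₀ hin hct hcq
  obtain ⟨P, hP, hPe⟩ := D.exists_duad ht ht1 htz
  obtain ⟨a, b, hab, rfl⟩ := Finset.card_eq_two.1 hP
  obtain ⟨i, k, hi, hki, hm⟩ : ∃ i k, i < 24 ∧ k < i ∧
      toSet (2 ^ i ^^^ 2 ^ k) = ({a, b} : Finset GolayPt) := by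
    have hne : idx a ≠ idx b := fun h => hab (idx_injective h)
    rcases Nat.lt_or_gt_of_ne hne with h | h
    · exact ⟨idx b, idx a, idx_lt _, h, by
        rw [toSet_pair (idx_lt _) (idx_lt _) h.ne', pt_idx, pt_idx, Finset.pair_comm]⟩
    · exact ⟨idx a, idx b, idx_lt _, h, by
        rw [toSet_pair (idx_lt _) (idx_lt _) h.ne', pt_idx, pt_idx]⟩
  set m := 2 ^ i ^^^ 2 ^ k with hmdef
  have hmlt : m < 2 ^ 24 := Nat.xor_lt_two_pow (Nat.pow_lt_pow_right (by norm_num) hi)
    (Nat.pow_lt_pow_right (by norm_num) (hki.trans hi))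
  have hevm : Ev m := ⟨hmlt, by rw [hm, hP]; decide⟩
  have htm : D.vm m = t := by rw [← vs_toSet, hm, hPe]
  have hchk := duad_check
  simp only [List.all_eq_true, List.mem_range, Bool.or_eq_true, List.any_eq_true,
    Nat.beq_eq] at hchk
  rcases hchk i hi k hki with ⟨j, hj, hp⟩ | ⟨T, hT, hp⟩
  · obtain ⟨κ, -, hκ, -⟩ := tEl_rep hj
    have hp' : pop (m ^^^ actP (tEl j) m) = 4 := hp
    set e := D.L κ * t * (D.L κ)⁻¹ with he
    have heV : e ∈ D.V := D.L_conj_mem κ ht
    have hr : D.vm (m ^^^ actP (tEl j) m) = t * e := by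
      rw [D.vm_xor, ← D.L_vm hκ hevm, htm]
    have hrz : IsConj z (t * e) := hr ▸ D.isConj_tetrad (by rw [card_toSet, hp'])
    -- the translation pulled back normalises
    have hcz : c⁻¹ * D.z₀ = D.z₀ * c⁻¹ :=
      ((show Commute c D.z₀ from hcq).inv_left).eq
    have h1 := D.cent_conj hcz (D.tEl_mem hz hE hj hκ)
    rw [inv_inv] at h1
    have h2 := (Subgroup.mem_normalizer_iff.1 (D.E₀_le h1) t).1 ht
    have hct' : c * t * c⁻¹ = t := mul_inv_eq_iff_eq_mul.2 hct
    have h3 : c⁻¹ * D.L κ * c * t * (c⁻¹ * D.L κ * c)⁻¹ = c⁻¹ * e * c := by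
      rw [he]
      calc c⁻¹ * D.L κ * c * t * (c⁻¹ * D.L κ * c)⁻¹
          = c⁻¹ * D.L κ * (c * t * c⁻¹) * (D.L κ)⁻¹ * c := by group
        _ = c⁻¹ * (D.L κ * t * (D.L κ)⁻¹) * c := by rw [hct']; group
    rw [h3] at h2
    refine D.inner_back hJ ht (mul_mem ht h2) ht1 htz ?_ ?_ hct ?_
    · refine (isConj_conj (g := c)).1 ?_
      rwa [show c * (t * (c⁻¹ * e * c)) * c⁻¹ = c * t * c⁻¹ * e by group, hct']
    · intro h
      rw [D.V_comm (mul_mem ht h2) ht, ← mul_assoc, D.V_sq ht, one_mul] at h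
      have h4 := (isConj_conj (g := c)).2 h
      rw [show c * (c⁻¹ * e * c) * c⁻¹ = e by group, he, isConj_conj] at h4
      exact htz h4
    · rw [show c * (t * (c⁻¹ * e * c)) * c⁻¹ = c * t * c⁻¹ * e by group, hct']
      exact mul_mem ht heV
  · exfalso
    have hb := List.all_eq_true.1 base_check.2.2.1 T hT
    simp only [Bool.and_eq_true, Nat.beq_eq, Nat.blt_eq] at hb
    have hevT : Ev T := ev_of_check hb.2 (by rw [hb.1.2])
    rw [D.vm_eq ev_fifteen hevT hb.1.1, ← htm, ← D.vm_xor, ← vs_toSet] at hin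
    exact (D.not_isConj_duad (by rw [card_toSet]; exact hp)).1 hin

/-- the common centraliser of a duad vector and a vector conjugate to `z` -/
theorem cent_pair (hJ : Cfsg.IsOfJankoFourTypeAt z) {t q c : G} (ht : t ∈ D.V) (hq : q ∈ D.V)
    (ht1 : t ≠ 1) (htz : ¬ IsConj z t) (hqz : IsConj z q) (hct : c * t = t * c)
    (hcq : c * q = q * c) : c ∈ Subgroup.normalizer (D.V : Set G) := by
  classical
  obtain ⟨T, hT, rfl⟩ := D.exists_tetrad hJ hq hqz
  let f : Fin 4 → GolayPt := fun i => ((T.equivFinOfCardEq hT).symm i : GolayPt)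
  have hf : Function.Injective f :=
    Subtype.val_injective.comp (T.equivFinOfCardEq hT).symm.injective
  obtain ⟨σ, hσ⟩ := exists_move (k := 4) (by norm_num) hf
    (g := ![pt 0, pt 1, pt 2, pt 3]) (by decide +kernel)
  have hTs : (σ : Equiv.Perm GolayPt) • T = toSet 15 := by
    refine Finset.eq_of_subset_of_card_le (fun x hx => ?_) ?_
    · obtain ⟨p, hp, rfl⟩ := Finset.mem_smul_finset.1 hx
      have h := hσ ((T.equivFinOfCardEq hT) ⟨p, hp⟩)
      simp only [f, Equiv.symm_apply_apply] at h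
      rw [Equiv.Perm.smul_def, h]
      generalize (T.equivFinOfCardEq hT) ⟨p, hp⟩ = i
      revert i
      decide +kernel
    · rw [Finset.card_smul_finset, hT]; decide +kernel
  refine D.mem_N_of_conj (σ := σ) (D.cent_z₀ hJ (D.L_conj_mem σ ht) ?_ ?_ (comm_conj hct) ?_)
  · exact fun h => ht1 (conj_eq_one_iff.1 h)
  · exact fun h => htz (isConj_conj.1 h)
  · have := comm_conj (g := D.L σ) hcq
    rwa [D.L_vs σ (by rw [hT]; decide), hTs, vs_toSet] at this

/-- an element centralising a duad vector and moving a vector conjugate to `z` within the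
subgroup -/
theorem pair_back (hJ : Cfsg.IsOfJankoFourTypeAt z) {t r g : G} (ht : t ∈ D.V) (hr : r ∈ D.V)
    (ht1 : t ≠ 1) (htz : ¬ IsConj z t) (hrz : IsConj z r) (hgt : g * t = t * g)
    (hgr : g * r * g⁻¹ ∈ D.V) : g ∈ Subgroup.normalizer (D.V : Set G) :=
  D.mem_N_of_map_le fun _ hv => D.cent_pair hJ ht hgr ht1 htz (isConj_conj.2 hrz)
    (comm_back (D.V_comm hv ht) hgt) (comm_conj (D.V_comm hv hr))

end Eleven

end CfsgLib.Spor.JankoFourCentral
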